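/-
Groups with root subgroups: a family of subgroups `X r` indexed by a finite root set, elements `nn i`
permuting them like the simple reflections and a subgroup `H` normalising each of them.
From the axioms below: `B = U H`, `N = ⟨H, nn⟩`, the action of `N` on the roots with kernel `H`,
`B ∩ N = H`, the Bruhat decomposition with uniqueness and the order formula.
-/
import Mathlib

set_option autoImplicit false

namespace Cfsg.Agent.RootBN

variable {M : Type*} [Group M] {ι : Type*} {κ : Type*}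

/-- The data. -/
structure Data (M : Type*) [Group M] (ι : Type*) (κ : Type*) where
  /-- root subgroups -/
  X : ι → Subgroup M
  /-- the torus -/
  H : Subgroup M
  /-- representatives of the simple reflections -/
  nn : κ → M
  /-- representatives of all reflections -/
  nroot : ι → M
  /-- the simple reflections as permutations of the roots -/
  refl : κ → Equiv.Perm ι
  /-- `r ↦ -r` -/
  opp : ι → ι
  /-- the simple roots -/
  simp : κ → ι
  /-- positivity -/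
  Pos : ι → Prop

namespace Data

variable (D : Data M ι κ)

/-- The subgroup generated by the positive root subgroups. -/
def U : Subgroup M := ⨆ (r : ι) (_ : D.Pos r), D.X r

/-- The subgroup generated by the positive root subgroups other than the `i`-th simple one. -/
def Urad (i : κ) : Subgroup M := ⨆ (r : ι) (_ : D.Pos r ∧ r ≠ D.simp i), D.X r

/-- The subgroup generated by all root subgroups. -/
def grp : Subgroup M := ⨆ r : ι, D.X r

/-- `B = UH`. -/
def B : Subgroup M := D.U ⊔ D.H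

/-- The monomial subgroup. -/
def N : Subgroup M := Subgroup.closure ((D.H : Set M) ∪ Set.range D.nn)

/-- Product of representatives along a word. -/
def nw (l : List κ) : M := (l.map D.nn).prod

/-- Product of reflections along a word. -/
def wl (l : List κ) : Equiv.Perm ι := (l.map D.refl).prod

/-- `g` permutes the root subgroups by `σ`. -/
def Acts (g : M) (σ : Equiv.Perm ι) : Prop := ∀ r y, g * y * g⁻¹ ∈ D.X (σ r) ↔ y ∈ D.X r

/-- The axioms. -/
structure Axioms : Prop where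
  pos_opp : ∀ r, D.Pos (D.opp r) ↔ ¬ D.Pos r
  opp_opp : ∀ r, D.opp (D.opp r) = r
  pos_simp : ∀ i, D.Pos (D.simp i)
  refl_simp : ∀ i, D.refl i (D.simp i) = D.opp (D.simp i)
  refl_opp : ∀ i r, D.refl i (D.opp r) = D.opp (D.refl i r)
  refl_refl : ∀ i r, D.refl i (D.refl i r) = r
  refl_pos : ∀ i r, D.Pos r → r ≠ D.simp i → D.Pos (D.refl i r)
  simp_inj : Function.Injective D.simp
  reach : ∀ r, ∃ (l : List κ) (i : κ), D.wl l (D.simp i) = r
  X_inj : Function.Injective D.X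
  X_ne_bot : ∀ r, D.X r ≠ ⊥
  H_le : D.H ≤ D.grp
  nn_mem : ∀ i, D.nn i ∈ D.grp
  conj_X : ∀ i r, ∀ y ∈ D.X r, D.nn i * y * (D.nn i)⁻¹ ∈ D.X (D.refl i r)
  H_conj : ∀ r, ∀ h ∈ D.H, ∀ y ∈ D.X r, h * y * h⁻¹ ∈ D.X r
  nn_H : ∀ i, ∀ h ∈ D.H, D.nn i * h * (D.nn i)⁻¹ ∈ D.H
  nn_sq : ∀ i, D.nn i * D.nn i ∈ D.H
  nroot_simp : ∀ i, D.nroot (D.simp i) = D.nn i
  conj_nroot : ∀ i r, ∃ h ∈ D.H, D.nn i * D.nroot r * (D.nn i)⁻¹ = h * D.nroot (D.refl i r)
  simp_normal : ∀ i r, D.Pos r → r ≠ D.simp i →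
    ∀ y ∈ D.X (D.simp i), ∀ z ∈ D.X r, y * z * y⁻¹ ∈ D.Urad i
  rank_one : ∀ i, ∀ y ∈ D.X (D.opp (D.simp i)), y ≠ 1 →
    ∃ a ∈ D.X (D.simp i), ∃ h ∈ D.H, ∃ b ∈ D.X (D.simp i), y = a * h * D.nn i * b
  neg_not_mem : ∀ r, ¬ D.Pos r → D.X r ⊓ D.B = ⊥

variable {D}

theorem X_le_U {r : ι} (h : D.Pos r) : D.X r ≤ D.U := le_iSup₂ (f := fun r (_ : D.Pos r) => D.X r) r h

theorem X_le_Urad {r : ι} {i : κ} (h : D.Pos r) (h' : r ≠ D.simp i) : D.X r ≤ D.Urad i :=
  le_iSup₂ (f := fun r (_ : D.Pos r ∧ r ≠ D.simp i) => D.X r) r ⟨h, h'⟩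

theorem X_le_grp (r : ι) : D.X r ≤ D.grp := le_iSup D.X r

theorem U_le_B : D.U ≤ D.B := le_sup_left

theorem H_le_B : D.H ≤ D.B := le_sup_right

theorem H_le_N : D.H ≤ D.N := fun _ h => Subgroup.subset_closure (Or.inl h)

theorem nn_mem_N (i : κ) : D.nn i ∈ D.N := Subgroup.subset_closure (Or.inr ⟨i, rfl⟩)

@[simp] theorem nw_nil : D.nw [] = 1 := rfl
@[simp] theorem wl_nil : D.wl [] = 1 := rfl

@[simp] theorem nw_cons (i : κ) (l : List κ) : D.nw (i :: l) = D.nn i * D.nw l := by simp [nw]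
@[simp] theorem wl_cons (i : κ) (l : List κ) : D.wl (i :: l) = D.refl i * D.wl l := by simp [wl]

theorem nw_append (l l' : List κ) : D.nw (l ++ l') = D.nw l * D.nw l' := by simp [nw]
theorem wl_append (l l' : List κ) : D.wl (l ++ l') = D.wl l * D.wl l' := by simp [wl]

theorem nw_mem_N (l : List κ) : D.nw l ∈ D.N :=
  Subgroup.list_prod_mem _ fun _ hx => by obtain ⟨i, -, rfl⟩ := List.mem_map.1 hx; exact nn_mem_N i

variable (ax : D.Axioms)
include ax

theorem pos_of_not_pos_opp {r : ι} (h : ¬ D.Pos (D.opp r)) : D.Pos r :=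
  not_not.1 fun h' => h ((ax.pos_opp r).2 h')

theorem refl_opp_simp (i : κ) : D.refl i (D.opp (D.simp i)) = D.simp i := by
  rw [ax.refl_opp, ax.refl_simp, ax.opp_opp]

theorem not_pos_opp_simp (i : κ) : ¬ D.Pos (D.opp (D.simp i)) := fun h =>
  (ax.pos_opp _).1 h (ax.pos_simp i)

theorem nn_inv_conj_H {i : κ} {h : M} (hh : h ∈ D.H) : (D.nn i)⁻¹ * h * D.nn i ∈ D.H := by
  have := D.H.mul_mem (D.H.mul_mem (D.H.inv_mem (ax.nn_sq i)) (ax.nn_H i h hh)) (ax.nn_sq i)
  simpa [mul_assoc] using this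

theorem nw_H (l : List κ) {h : M} (hh : h ∈ D.H) : D.nw l * h * (D.nw l)⁻¹ ∈ D.H := by
  induction l with
  | nil => simpa using hh
  | cons i l ih =>
    have := ax.nn_H i _ ih
    simpa [mul_assoc] using this

theorem exists_word {g : M} (hg : g ∈ D.N) : ∃ h ∈ D.H, ∃ l, g = h * D.nw l := by
  induction hg using Subgroup.closure_induction_left with
  | one => exact ⟨1, D.H.one_mem, [], by simp⟩
  | mul_left x hx y _ ih =>
    obtain ⟨h, hh, l, rfl⟩ := ih
    rcases hx with hx | ⟨i, rfl⟩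
    · exact ⟨x * h, D.H.mul_mem hx hh, l, by simp [mul_assoc]⟩
    · exact ⟨D.nn i * h * (D.nn i)⁻¹, ax.nn_H i h hh, i :: l, by simp [mul_assoc]⟩
  | inv_mul_cancel x hx y _ ih =>
    obtain ⟨h, hh, l, rfl⟩ := ih
    rcases hx with hx | ⟨i, rfl⟩
    · exact ⟨x⁻¹ * h, D.H.mul_mem (D.H.inv_mem hx) hh, l, by simp [mul_assoc]⟩
    · exact ⟨(D.nn i * D.nn i)⁻¹ * (D.nn i * h * (D.nn i)⁻¹),
        D.H.mul_mem (D.H.inv_mem (ax.nn_sq i)) (ax.nn_H i h hh), i :: l, by simp [mul_assoc]⟩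

theorem N_conj_H {g h : M} (hg : g ∈ D.N) (hh : h ∈ D.H) : g * h * g⁻¹ ∈ D.H := by
  obtain ⟨h', hh', l, rfl⟩ := exists_word ax hg
  have := D.H.mul_mem (D.H.mul_mem hh' (nw_H ax l hh)) (D.H.inv_mem hh')
  simpa [mul_assoc] using this

/-! ### The action on the roots -/

omit ax in
theorem acts_one : D.Acts 1 1 := fun r y => by simp

omit ax in
theorem Acts.mul {g g' : M} {σ τ : Equiv.Perm ι} (h : D.Acts g σ) (h' : D.Acts g' τ) :
    D.Acts (g * g') (σ * τ) := by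
  intro r y
  rw [Equiv.Perm.mul_apply, show g * g' * y * (g * g')⁻¹ = g * (g' * y * g'⁻¹) * g⁻¹ by group,
    h (τ r), h' r]

omit ax in
theorem Acts.inv {g : M} {σ : Equiv.Perm ι} (h : D.Acts g σ) : D.Acts g⁻¹ σ⁻¹ := by
  intro r y
  rw [← h (σ⁻¹ r) (g⁻¹ * y * g⁻¹⁻¹), show σ (σ⁻¹ r) = r from σ.apply_symm_apply r]
  simp [mul_assoc]

theorem acts_H {h : M} (hh : h ∈ D.H) : D.Acts h 1 := by
  intro r y
  refine ⟨fun hy => ?_, ax.H_conj r h hh y⟩
  have := ax.H_conj r h⁻¹ (D.H.inv_mem hh) _ hy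
  simpa [mul_assoc] using this

theorem acts_nn (i : κ) : D.Acts (D.nn i) (D.refl i) := by
  intro r y
  refine ⟨fun hy => ?_, ax.conj_X i r y⟩
  have h1 := ax.conj_X i _ _ hy
  rw [ax.refl_refl] at h1
  have := ax.H_conj r _ (D.H.inv_mem (ax.nn_sq i)) _ h1
  simpa [mul_assoc] using this

theorem acts_nw (l : List κ) : D.Acts (D.nw l) (D.wl l) := by
  induction l with
  | nil => exact acts_one
  | cons i l ih => simpa using (acts_nn ax i).mul ih

theorem acts_mul_nw {h : M} (hh : h ∈ D.H) (l : List κ) : D.Acts (h * D.nw l) (D.wl l) := by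
  simpa using (acts_H ax hh).mul (acts_nw ax l)

theorem exists_acts {g : M} (hg : g ∈ D.N) : ∃ l, D.Acts g (D.wl l) := by
  obtain ⟨h, hh, l, rfl⟩ := exists_word ax hg
  exact ⟨l, acts_mul_nw ax hh l⟩

theorem acts_unique {g : M} {σ τ : Equiv.Perm ι} (h : D.Acts g σ) (h' : D.Acts g τ) : σ = τ := by
  ext r
  apply ax.X_inj
  ext z
  have h1 := h r (g⁻¹ * z * g)
  have h2 := h' r (g⁻¹ * z * g)
  simp only [mul_assoc, mul_inv_cancel_left, mul_inv_cancel, mul_one] at h1 h2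
  exact h1.trans h2.symm

theorem wl_opp (l : List κ) (r : ι) : D.wl l (D.opp r) = D.opp (D.wl l r) := by
  induction l with
  | nil => rfl
  | cons i l ih => simp [ih, ax.refl_opp]

theorem wl_reverse (l : List κ) : D.wl l.reverse = (D.wl l)⁻¹ := by
  induction l with
  | nil => simp
  | cons i l ih =>
    have : (D.refl i)⁻¹ = D.refl i :=
      inv_eq_of_mul_eq_one_right (Equiv.ext fun r => ax.refl_refl i r)
    simp [wl_append, ih, this]

theorem conj_nroot_nw (l : List κ) (r : ι) :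
    ∃ h ∈ D.H, D.nw l * D.nroot r * (D.nw l)⁻¹ = h * D.nroot (D.wl l r) := by
  induction l with
  | nil => exact ⟨1, D.H.one_mem, by simp⟩
  | cons i l ih =>
    obtain ⟨h, hh, e⟩ := ih
    obtain ⟨h', hh', e'⟩ := ax.conj_nroot i (D.wl l r)
    refine ⟨D.nn i * h * (D.nn i)⁻¹ * h', D.H.mul_mem (ax.nn_H i h hh) hh', ?_⟩
    calc D.nw (i :: l) * D.nroot r * (D.nw (i :: l))⁻¹
        = D.nn i * (D.nw l * D.nroot r * (D.nw l)⁻¹) * (D.nn i)⁻¹ := by simp [mul_assoc]
      _ = D.nn i * h * (D.nn i)⁻¹ * (D.nn i * D.nroot (D.wl l r) * (D.nn i)⁻¹) := by rw [e]; group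
      _ = _ := by rw [e']; simp [mul_assoc]

/-- Deletion. -/
theorem deletion (l : List κ) (i : κ) (hneg : ¬ D.Pos (D.wl l (D.simp i))) :
    ∃ h ∈ D.H, ∃ l' : List κ, l'.length < l.length ∧ D.nw l * D.nn i = h * D.nw l' := by
  induction l with
  | nil => exact absurd (ax.pos_simp i) hneg
  | cons j l ih =>
    by_cases hu : D.Pos (D.wl l (D.simp i))
    · have huj : D.wl l (D.simp i) = D.simp j := by
        by_contra hne
        exact hneg (by simpa using ax.refl_pos j _ hu hne)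
      obtain ⟨h, hh, e⟩ := conj_nroot_nw ax l (D.simp i)
      rw [ax.nroot_simp, huj, ax.nroot_simp] at e
      refine ⟨D.nn j * h * (D.nn j)⁻¹ * (D.nn j * D.nn j),
        D.H.mul_mem (ax.nn_H j h hh) (ax.nn_sq j), l, by simp, ?_⟩
      calc D.nw (j :: l) * D.nn i = D.nn j * (D.nw l * D.nn i * (D.nw l)⁻¹) * D.nw l := by
            simp [mul_assoc]
        _ = _ := by rw [e]; group
    · obtain ⟨h, hh, l', hl', e⟩ := ih hu
      refine ⟨D.nn j * h * (D.nn j)⁻¹, ax.nn_H j h hh, j :: l', by simp [hl'], ?_⟩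
      simp [mul_assoc, e]

/-- An element of `N` fixing positivity lies in `H`. -/
theorem mem_H_of_pos_preserving {g : M} {σ : Equiv.Perm ι} (hg : g ∈ D.N) (hσ : D.Acts g σ)
    (hp : ∀ r, D.Pos r → D.Pos (σ r)) : g ∈ D.H := by
  obtain ⟨h, hh, l, rfl⟩ := exists_word ax hg
  obtain rfl := acts_unique ax hσ (acts_mul_nw ax hh l)
  suffices key : ∀ n, ∀ l : List κ, l.length = n → (∀ r, D.Pos r → D.Pos (D.wl l r)) → D.nw l ∈ D.H from
    D.H.mul_mem hh (key _ l rfl hp)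
  intro n
  induction n using Nat.strong_induction_on with
  | _ n ih =>
    intro l hl hp
    rcases List.eq_nil_or_concat l with rfl | ⟨l₀, i, rfl⟩
    · simp
    · rw [List.concat_eq_append] at *
      have hneg : ¬ D.Pos (D.wl l₀ (D.simp i)) := by
        have := hp _ (ax.pos_simp i)
        simp only [wl_append, wl_cons, wl_nil, mul_one, Equiv.Perm.mul_apply, ax.refl_simp, wl_opp ax,
          ax.pos_opp] at this
        exact this
      obtain ⟨h', hh', l', hl', e⟩ := deletion ax l₀ i hneg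
      have e' : D.nw (l₀ ++ [i]) = h' * D.nw l' := by simpa [nw_append] using e
      have hw : D.wl (l₀ ++ [i]) = D.wl l' :=
        acts_unique ax (acts_nw ax _) (e' ▸ acts_mul_nw ax hh' l')
      rw [e']
      exact D.H.mul_mem hh' (ih l'.length (by simp at hl; omega) l' rfl (hw ▸ hp))

theorem mul_inv_mem_H {g g' : M} {σ : Equiv.Perm ι} (hg : g ∈ D.N) (hg' : g' ∈ D.N) (h : D.Acts g σ)
    (h' : D.Acts g' σ) : g * g'⁻¹ ∈ D.H :=
  mem_H_of_pos_preserving ax (D.N.mul_mem hg (D.N.inv_mem hg')) (h.mul h'.inv)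
    (fun r hr => by simpa using hr)

/-- A non-trivial element of the Weyl group makes some simple root negative. -/
theorem exists_simp_neg (l : List κ) (h : D.wl l ≠ 1) : ∃ i, ¬ D.Pos (D.wl l (D.simp i)) := by
  suffices key : ∀ n, ∀ l : List κ, l.length = n → D.wl l ≠ 1 → ∃ i, ¬ D.Pos (D.wl l (D.simp i)) from
    key _ l rfl h
  intro n
  induction n using Nat.strong_induction_on with
  | _ n ih =>
    intro l hl h
    rcases List.eq_nil_or_concat l with rfl | ⟨l₀, i, rfl⟩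
    · exact absurd wl_nil h
    · rw [List.concat_eq_append] at *
      by_cases hneg : D.Pos (D.wl l₀ (D.simp i))
      · refine ⟨i, ?_⟩
        simp [wl_append, ax.refl_simp, wl_opp ax, ax.pos_opp, hneg]
      · obtain ⟨h', hh', l', hl', e⟩ := deletion ax l₀ i hneg
        have e' : D.nw (l₀ ++ [i]) = h' * D.nw l' := by simpa [nw_append] using e
        have hw : D.wl (l₀ ++ [i]) = D.wl l' :=
          acts_unique ax (acts_nw ax _) (e' ▸ acts_mul_nw ax hh' l')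
        rw [hw] at h ⊢
        exact ih l'.length (by simp at hl; omega) l' rfl h

theorem exists_descent {l : List κ} (h : D.wl l ≠ 1) : ∃ i, ¬ D.Pos ((D.wl l)⁻¹ (D.simp i)) := by
  rw [← wl_reverse ax]
  exact exists_simp_neg ax _ (by rw [wl_reverse ax]; simpa using h)

/-! ### `B` -/

theorem H_conj_of_iSup {S : Set ι} {h z : M} (hh : h ∈ D.H) (hz : z ∈ ⨆ (r : ι) (_ : r ∈ S), D.X r) :
    h * z * h⁻¹ ∈ ⨆ (r : ι) (_ : r ∈ S), D.X r := by
  refine (show (⨆ (r : ι) (_ : r ∈ S), D.X r) ≤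
    (⨆ (r : ι) (_ : r ∈ S), D.X r).comap (MulAut.conj h).toMonoidHom from ?_) hz
  refine iSup₂_le fun r hr y hy => ?_
  exact le_iSup₂ (f := fun r (_ : r ∈ S) => D.X r) r hr (ax.H_conj r h hh y hy)

theorem H_conj_U {h u : M} (hh : h ∈ D.H) (hu : u ∈ D.U) : h * u * h⁻¹ ∈ D.U :=
  H_conj_of_iSup ax (S := {r | D.Pos r}) hh hu

theorem H_conj_Urad {i : κ} {h u : M} (hh : h ∈ D.H) (hu : u ∈ D.Urad i) : h * u * h⁻¹ ∈ D.Urad i :=
  H_conj_of_iSup ax (S := {r | D.Pos r ∧ r ≠ D.simp i}) hh hu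

theorem H_le_normalizer_U : D.H ≤ Subgroup.normalizer (D.U : Set M) := by
  intro h hh
  refine Subgroup.mem_normalizer_iff.2 fun u => ⟨H_conj_U ax hh, fun hu => ?_⟩
  have := H_conj_U ax (D.H.inv_mem hh) hu
  simpa [mul_assoc] using this

theorem mem_B_iff {g : M} : g ∈ D.B ↔ ∃ u ∈ D.U, ∃ h ∈ D.H, g = u * h := by
  rw [B, ← SetLike.mem_coe, Subgroup.coe_mul_of_right_le_normalizer_left _ _ (H_le_normalizer_U ax),
    Set.mem_mul]
  simp only [SetLike.mem_coe, eq_comm]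

theorem nn_conj_Urad {i : κ} {u : M} (hu : u ∈ D.Urad i) : D.nn i * u * (D.nn i)⁻¹ ∈ D.Urad i := by
  refine (show D.Urad i ≤ (D.Urad i).comap (MulAut.conj (D.nn i)).toMonoidHom from
    iSup₂_le fun r hr y hy => ?_) hu
  refine X_le_Urad (ax.refl_pos i r hr.1 hr.2) (fun he => ?_) (ax.conj_X i r y hy)
  have := congrArg (D.refl i) he
  rw [ax.refl_refl, ax.refl_simp] at this
  exact not_pos_opp_simp ax i (this ▸ hr.1)

theorem nn_inv_conj_Urad {i : κ} {u : M} (hu : u ∈ D.Urad i) :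
    (D.nn i)⁻¹ * u * D.nn i ∈ D.Urad i := by
  have := H_conj_Urad ax (D.H.inv_mem (ax.nn_sq i)) (nn_conj_Urad ax hu)
  simpa [mul_assoc] using this

theorem X_conj_Urad {i : κ} {y u : M} (hy : y ∈ D.X (D.simp i)) (hu : u ∈ D.Urad i) :
    y * u * y⁻¹ ∈ D.Urad i :=
  (show D.Urad i ≤ (D.Urad i).comap (MulAut.conj y).toMonoidHom from
    iSup₂_le fun r hr z hz => ax.simp_normal i r hr.1 hr.2 y hy z hz) hu

omit ax in
theorem Urad_le_U (i : κ) : D.Urad i ≤ D.U := iSup₂_le fun _ hr => X_le_U hr.1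

theorem U_eq_mul (i : κ) {u : M} (hu : u ∈ D.U) :
    ∃ y ∈ D.X (D.simp i), ∃ v ∈ D.Urad i, u = y * v := by
  have hn : D.X (D.simp i) ≤ Subgroup.normalizer (D.Urad i : Set M) := by
    intro y hy
    refine Subgroup.mem_normalizer_iff.2 fun v => ⟨X_conj_Urad ax hy, fun hv => ?_⟩
    have := X_conj_Urad ax ((D.X _).inv_mem hy) hv
    simpa [mul_assoc] using this
  have hle : D.U ≤ D.X (D.simp i) ⊔ D.Urad i := iSup₂_le fun r hr => by
    by_cases h : r = D.simp i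
    · subst h; exact le_sup_left
    · exact le_sup_of_le_right (X_le_Urad hr h)
  have h2 := hle hu
  rw [← SetLike.mem_coe, Subgroup.coe_mul_of_left_le_normalizer_right _ _ hn, Set.mem_mul] at h2
  obtain ⟨y, hy, v, hv, e⟩ := h2
  exact ⟨y, hy, v, hv, e.symm⟩

/-- Every element of `B` is `y u h`. -/
theorem B_decomp (i : κ) {b : M} (hb : b ∈ D.B) :
    ∃ y ∈ D.X (D.simp i), ∃ v ∈ D.Urad i, ∃ h ∈ D.H, b = y * v * h := by
  obtain ⟨u, hu, h, hh, rfl⟩ := (mem_B_iff ax).1 hb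
  obtain ⟨y, hy, v, hv, rfl⟩ := U_eq_mul ax i hu
  exact ⟨y, hy, v, hv, h, hh, rfl⟩

theorem X_simp_le_B (i : κ) : D.X (D.simp i) ≤ D.B := (X_le_U (ax.pos_simp i)).trans U_le_B

omit ax in
theorem Urad_le_B (i : κ) : D.Urad i ≤ D.B := (Urad_le_U i).trans U_le_B

theorem nn_not_mem_B (i : κ) : D.nn i ∉ D.B := by
  intro hn
  obtain ⟨y, hy, hy1⟩ := (Subgroup.ne_bot_iff_exists_ne_one.1 (ax.X_ne_bot (D.simp i))) |>
    fun ⟨y, h⟩ => (⟨y.1, y.2, fun h' => h (Subtype.ext h')⟩ : ∃ y, y ∈ D.X (D.simp i) ∧ y ≠ 1)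
  have h1 : D.nn i * y * (D.nn i)⁻¹ ∈ D.X (D.opp (D.simp i)) ⊓ D.B :=
    ⟨by have := ax.conj_X i _ y hy; rwa [ax.refl_simp] at this,
      D.B.mul_mem (D.B.mul_mem hn (X_simp_le_B ax i hy)) (D.B.inv_mem hn)⟩
  rw [ax.neg_not_mem _ (not_pos_opp_simp ax i), Subgroup.mem_bot, conj_eq_one_iff] at h1
  exact hy1 h1

theorem N_inf_B : D.N ⊓ D.B = D.H := by
  refine le_antisymm ?_ (le_inf H_le_N H_le_B)
  rintro g ⟨hgN, hgB⟩
  obtain ⟨l, hl⟩ := exists_acts ax hgN
  refine mem_H_of_pos_preserving ax hgN hl fun r hr => ?_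
  by_contra hneg
  apply ax.X_ne_bot r
  rw [Subgroup.eq_bot_iff_forall]
  intro y hy
  have h1 : g * y * g⁻¹ ∈ D.X (D.wl l r) ⊓ D.B :=
    ⟨(hl r y).2 hy, D.B.mul_mem (D.B.mul_mem hgB (U_le_B (X_le_U hr hy))) (D.B.inv_mem hgB)⟩
  rw [ax.neg_not_mem _ hneg, Subgroup.mem_bot, conj_eq_one_iff] at h1
  exact h1

/-! ### Cells -/

omit ax in
/-- The double coset `B n B` of the elements of `N` acting as `σ`. -/
def cell (D : Data M ι κ) (σ : Equiv.Perm ι) : Set M :=
  {g | ∃ n ∈ D.N, D.Acts n σ ∧ ∃ b ∈ D.B, ∃ c ∈ D.B, g = b * n * c}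

omit ax in
theorem mem_cell_of {n : M} {σ : Equiv.Perm ι} (hn : n ∈ D.N) (hσ : D.Acts n σ) : n ∈ D.cell σ :=
  ⟨n, hn, hσ, 1, D.B.one_mem, 1, D.B.one_mem, by simp⟩

omit ax in
theorem mul_mem_cell {σ : Equiv.Perm ι} {g b c : M} (hg : g ∈ D.cell σ) (hb : b ∈ D.B) (hc : c ∈ D.B) :
    b * g * c ∈ D.cell σ := by
  obtain ⟨n, hn, hσ, b', hb', c', hc', rfl⟩ := hg
  exact ⟨n, hn, hσ, b * b', D.B.mul_mem hb hb', c' * c, D.B.mul_mem hc' hc, by group⟩

theorem mem_cell_iff {n g : M} {σ : Equiv.Perm ι} (hn : n ∈ D.N) (hσ : D.Acts n σ) :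
    g ∈ D.cell σ ↔ ∃ b ∈ D.B, ∃ c ∈ D.B, g = b * n * c := by
  constructor
  · rintro ⟨n', hn', hσ', b, hb, c, hc, rfl⟩
    refine ⟨b * (n' * n⁻¹), D.B.mul_mem hb (H_le_B (mul_inv_mem_H ax hn' hn hσ' hσ)), c, hc, ?_⟩
    simp [mul_assoc]
  · rintro ⟨b, hb, c, hc, rfl⟩
    exact mul_mem_cell (mem_cell_of hn hσ) hb hc

theorem mem_cell_one {g : M} : g ∈ D.cell 1 ↔ g ∈ D.B := by
  rw [mem_cell_iff ax D.N.one_mem acts_one]
  exact ⟨fun ⟨b, hb, c, hc, e⟩ => by rw [e, mul_one]; exact D.B.mul_mem hb hc,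
    fun hg => ⟨g, hg, 1, D.B.one_mem, by simp⟩⟩

theorem nn_mul_y_mul {i : κ} {σ : Equiv.Perm ι} {n y : M} (hn : n ∈ D.N) (hσ : D.Acts n σ)
    (hy : y ∈ D.X (D.simp i)) (hpos : D.Pos (σ⁻¹ (D.simp i)) ∨ y = 1) :
    D.nn i * y * n ∈ D.cell (D.refl i * σ) := by
  have hcell : D.nn i * n ∈ D.cell (D.refl i * σ) :=
    mem_cell_of (D.N.mul_mem (nn_mem_N i) hn) ((acts_nn ax i).mul hσ)
  rcases hpos with hpos | rfl
  · have h1 : n⁻¹ * y * n ∈ D.B := by
      have := (hσ.inv (D.simp i) y).2 hy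
      rw [inv_inv] at this
      exact U_le_B (X_le_U hpos this)
    have := mul_mem_cell hcell D.B.one_mem h1
    simpa [mul_assoc] using this
  · simpa using hcell

theorem acts_opp {g : M} {σ : Equiv.Perm ι} (hg : g ∈ D.N) (hσ : D.Acts g σ) (r : ι) :
    σ (D.opp r) = D.opp (σ r) := by
  obtain ⟨l, hl⟩ := exists_acts ax hg
  rw [acts_unique ax hσ hl]
  exact wl_opp ax l r

theorem inv_apply_opp {g : M} {σ : Equiv.Perm ι} (hg : g ∈ D.N) (hσ : D.Acts g σ) (r : ι) :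
    σ⁻¹ (D.opp r) = D.opp (σ⁻¹ r) :=
  acts_opp ax (D.N.inv_mem hg) hσ.inv r

/-- The basic double coset inclusion, on elements of the simple root subgroup. -/
theorem nn_mul_y_mul_or {i : κ} {σ : Equiv.Perm ι} {n y : M} (hn : n ∈ D.N) (hσ : D.Acts n σ)
    (hy : y ∈ D.X (D.simp i)) :
    D.nn i * y * n ∈ D.cell (D.refl i * σ) ∨ D.nn i * y * n ∈ D.cell σ := by
  by_cases hpos : D.Pos (σ⁻¹ (D.simp i)) ∨ y = 1
  · exact Or.inl (nn_mul_y_mul ax hn hσ hy hpos)
  right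
  push Not at hpos
  obtain ⟨hneg, hy1⟩ := hpos
  have hz : D.nn i * y * (D.nn i)⁻¹ ∈ D.X (D.opp (D.simp i)) := by
    have := ax.conj_X i _ y hy
    rwa [ax.refl_simp] at this
  obtain ⟨a, ha, h, hh, b, hb, e⟩ := ax.rank_one i _ hz (by simpa [conj_eq_one_iff] using hy1)
  have hz' : D.nn i * b * (D.nn i)⁻¹ ∈ D.X (D.opp (D.simp i)) := by
    have := ax.conj_X i _ b hb
    rwa [ax.refl_simp] at this
  have h1 : n⁻¹ * (D.nn i * b * (D.nn i)⁻¹) * n ∈ D.B := by
    have := (hσ.inv _ _).2 hz'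
    rw [inv_inv, inv_apply_opp ax hn hσ] at this
    exact U_le_B (X_le_U ((ax.pos_opp _).2 hneg) this)
  have h2 : n⁻¹ * (D.nn i * D.nn i) * n ∈ D.B := by
    have := N_conj_H ax (D.N.inv_mem hn) (ax.nn_sq i)
    rw [inv_inv] at this
    exact H_le_B this
  have := mul_mem_cell (mem_cell_of hn hσ)
    (D.B.mul_mem (X_simp_le_B ax i ha) (H_le_B hh)) (D.B.mul_mem h1 h2)
  have e2 : D.nn i * y * n = a * h * n *
      (n⁻¹ * (D.nn i * b * (D.nn i)⁻¹) * n * (n⁻¹ * (D.nn i * D.nn i) * n)) := by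
    rw [show D.nn i * y * n = (D.nn i * y * (D.nn i)⁻¹) * D.nn i * n by group, e]
    group
  rw [e2]
  exact this

/-- The part of `B` normalised by `nn i` passes through. -/
theorem nn_conj_rad {i : κ} {v h : M} (hv : v ∈ D.Urad i) (hh : h ∈ D.H) :
    D.nn i * (v * h) * (D.nn i)⁻¹ ∈ D.B ∧ (D.nn i)⁻¹ * (v * h) * D.nn i ∈ D.B := by
  constructor
  · have := D.B.mul_mem (Urad_le_B i (nn_conj_Urad ax hv)) (H_le_B (ax.nn_H i h hh))
    simpa [mul_assoc] using this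
  · have := D.B.mul_mem (Urad_le_B i (nn_inv_conj_Urad ax hv)) (H_le_B (nn_inv_conj_H ax (i := i) hh))
    simpa [mul_assoc] using this

theorem nn_mul_cell_aux {i : κ} {σ : Equiv.Perm ι} {g : M} (hg : g ∈ D.cell σ) :
    ∃ n ∈ D.N, D.Acts n σ ∧ ∃ b ∈ D.B, ∃ y ∈ D.X (D.simp i), ∃ c ∈ D.B,
      D.nn i * g = b * (D.nn i * y * n) * c := by
  obtain ⟨n, hn, hσ, b, hb, c, hc, rfl⟩ := hg
  obtain ⟨y, hy, v, hv, h, hh, rfl⟩ := B_decomp ax i hb
  refine ⟨n, hn, hσ, D.nn i * (y * v * y⁻¹) * (D.nn i)⁻¹, Urad_le_B i (nn_conj_Urad ax (X_conj_Urad ax hy hv)),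
    y, hy, n⁻¹ * h * n * c, D.B.mul_mem ?_ hc, by group⟩
  have := N_conj_H ax (D.N.inv_mem hn) hh
  rw [inv_inv] at this
  exact H_le_B this

theorem nn_mul_cell {i : κ} {σ : Equiv.Perm ι} {g : M} (hg : g ∈ D.cell σ) :
    D.nn i * g ∈ D.cell (D.refl i * σ) ∨ D.nn i * g ∈ D.cell σ := by
  obtain ⟨n, hn, hσ, b, hb, y, hy, c, hc, e⟩ := nn_mul_cell_aux ax (i := i) hg
  rw [e]
  rcases nn_mul_y_mul_or ax hn hσ hy with h | h
  · exact Or.inl (mul_mem_cell h hb hc)
  · exact Or.inr (mul_mem_cell h hb hc)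

theorem nn_mul_cell_pos {i : κ} {σ : Equiv.Perm ι} {g : M} (hpos : D.Pos (σ⁻¹ (D.simp i)))
    (hg : g ∈ D.cell σ) : D.nn i * g ∈ D.cell (D.refl i * σ) := by
  obtain ⟨n, hn, hσ, b, hb, y, hy, c, hc, e⟩ := nn_mul_cell_aux ax (i := i) hg
  rw [e]
  exact mul_mem_cell (nn_mul_y_mul ax hn hσ hy (Or.inl hpos)) hb hc

theorem refl_mul_refl_mul (i : κ) (σ : Equiv.Perm ι) : D.refl i * (D.refl i * σ) = σ :=
  Equiv.ext fun r => ax.refl_refl i (σ r)

theorem refl_inv (i : κ) : (D.refl i)⁻¹ = D.refl i :=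
  inv_eq_of_mul_eq_one_right (Equiv.ext fun r => ax.refl_refl i r)

/-- Bruhat decomposition. -/
theorem exists_cell {g : M} (hg : g ∈ D.grp) : ∃ l, g ∈ D.cell (D.wl l) := by
  have hle : D.grp ≤ Subgroup.closure ((D.B : Set M) ∪ Set.range D.nn) := by
    refine iSup_le fun r y hy => ?_
    obtain ⟨l, i, rfl⟩ := ax.reach r
    have h1 : (D.nw l)⁻¹ * y * D.nw l ∈ D.X (D.simp i) := by
      apply ((acts_nw ax l) (D.simp i) _).1
      simpa [mul_assoc] using hy
    have h2 : D.nw l ∈ Subgroup.closure ((D.B : Set M) ∪ Set.range D.nn) :=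
      Subgroup.list_prod_mem _ fun _ hx => by
        obtain ⟨j, -, rfl⟩ := List.mem_map.1 hx
        exact Subgroup.subset_closure (Or.inr ⟨j, rfl⟩)
    have h3 : (D.nw l)⁻¹ * y * D.nw l ∈ Subgroup.closure ((D.B : Set M) ∪ Set.range D.nn) :=
      Subgroup.subset_closure (Or.inl (X_simp_le_B ax i h1))
    have := Subgroup.mul_mem _ (Subgroup.mul_mem _ h2 h3) (Subgroup.inv_mem _ h2)
    simpa [mul_assoc] using this
  replace hg := hle hg
  induction hg using Subgroup.closure_induction_left with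
  | one => exact ⟨[], (mem_cell_one ax).2 D.B.one_mem⟩
  | mul_left x hx z _ ih =>
    obtain ⟨l, hl⟩ := ih
    rcases hx with hx | ⟨i, rfl⟩
    · exact ⟨l, by simpa using mul_mem_cell hl hx D.B.one_mem⟩
    · rcases nn_mul_cell ax (i := i) hl with h | h
      · exact ⟨i :: l, by simpa using h⟩
      · exact ⟨l, h⟩
  | inv_mul_cancel x hx z _ ih =>
    obtain ⟨l, hl⟩ := ih
    rcases hx with hx | ⟨i, rfl⟩
    · exact ⟨l, by simpa using mul_mem_cell hl (D.B.inv_mem hx) D.B.one_mem⟩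
    · have e : (D.nn i)⁻¹ * z = (D.nn i * D.nn i)⁻¹ * (D.nn i * z) := by group
      rcases nn_mul_cell ax (i := i) hl with h | h
      · refine ⟨i :: l, ?_⟩
        rw [e, wl_cons]
        simpa using mul_mem_cell h (D.B.inv_mem (H_le_B (ax.nn_sq i))) D.B.one_mem
      · refine ⟨l, ?_⟩
        rw [e]
        simpa using mul_mem_cell h (D.B.inv_mem (H_le_B (ax.nn_sq i))) D.B.one_mem

/-! ### Inversions and uniqueness -/

omit ax in
/-- The positive roots sent to negative ones. -/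
noncomputable def inv (D : Data M ι κ) (σ : Equiv.Perm ι) : ℕ :=
  Set.ncard {r | D.Pos r ∧ ¬ D.Pos (σ r)}

omit ax in
theorem inv_one : D.inv 1 = 0 := by simp [Data.inv]

theorem inv_refl_mul [Finite ι] {i : κ} (l : List κ) (hpos : D.Pos ((D.wl l)⁻¹ (D.simp i))) :
    D.inv (D.refl i * D.wl l) = D.inv (D.wl l) + 1 := by
  classical
  set σ := D.wl l with hσ
  set a := σ⁻¹ (D.simp i) with ha
  have hσa : σ a = D.simp i := σ.apply_symm_apply _
  have hset : {r | D.Pos r ∧ ¬ D.Pos ((D.refl i * σ) r)} = insert a {r | D.Pos r ∧ ¬ D.Pos (σ r)} := by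
    ext r
    simp only [Set.mem_setOf_eq, Set.mem_insert_iff, Equiv.Perm.mul_apply]
    by_cases hra : r = a
    · subst hra
      simp [hσa, ax.refl_simp, hpos, not_pos_opp_simp ax i]
    simp only [hra, false_or, and_congr_right_iff]
    intro hr
    have h1 : σ r ≠ D.simp i := fun h => hra (σ.injective (h.trans hσa.symm))
    have h2 : σ r ≠ D.opp (D.simp i) := fun h => by
      rw [← hσa, hσ, ← wl_opp ax, ← hσ, σ.injective.eq_iff] at h
      exact (ax.pos_opp a).1 (h ▸ hr) hpos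
    by_cases hp : D.Pos (σ r)
    · simp [hp, ax.refl_pos i _ hp h1]
    · have hq : D.Pos (D.opp (σ r)) := (ax.pos_opp _).2 hp
      have hne : D.opp (σ r) ≠ D.simp i := fun h => h2 (by rw [← h, ax.opp_opp])
      have := ax.refl_pos i _ hq hne
      rw [ax.refl_opp, ax.pos_opp] at this
      simp [hp, this]
  rw [Data.inv, Data.inv, hset, Set.ncard_insert_of_notMem]
  simp [hσa, ax.pos_simp]

theorem inv_refl_mul_neg [Finite ι] {i : κ} (l : List κ)
    (hneg : ¬ D.Pos ((D.wl l)⁻¹ (D.simp i))) : D.inv (D.refl i * D.wl l) + 1 = D.inv (D.wl l) := by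
  have hp : D.Pos ((D.wl (i :: l))⁻¹ (D.simp i)) := by
    rw [wl_cons, mul_inv_rev, Equiv.Perm.mul_apply, refl_inv ax, ax.refl_simp, ← wl_reverse ax,
      wl_opp ax, wl_reverse ax, ax.pos_opp]
    exact hneg
  have := inv_refl_mul ax (i := i) (i :: l) hp
  rw [wl_cons, refl_mul_refl_mul ax] at this
  exact this.symm

theorem inv_eq_zero [Finite ι] (l : List κ) (h : D.inv (D.wl l) = 0) : D.wl l = 1 := by
  by_contra hne
  obtain ⟨i, hi⟩ := exists_descent ax hne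
  have := inv_refl_mul_neg ax l hi
  omega

/-- The cells are disjoint. -/
theorem cell_disjoint [Finite ι] {l l' : List κ} {g : M} (h : g ∈ D.cell (D.wl l))
    (h' : g ∈ D.cell (D.wl l')) : D.wl l = D.wl l' := by
  suffices key : ∀ k, ∀ l l' : List κ, D.inv (D.wl l) = k → D.inv (D.wl l) ≤ D.inv (D.wl l') →
      ∀ g, g ∈ D.cell (D.wl l) → g ∈ D.cell (D.wl l') → D.wl l = D.wl l' by
    rcases le_total (D.inv (D.wl l)) (D.inv (D.wl l')) with hl | hl
    · exact key _ l l' rfl hl g h h'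
    · exact (key _ l' l rfl hl g h' h).symm
  intro k
  induction k with
  | zero =>
    intro l l' h0 _ g hg hg'
    have hl := inv_eq_zero ax l h0
    rw [hl] at hg ⊢
    rw [mem_cell_one ax] at hg
    obtain ⟨n, hn, hσ, b, hb, c, hc, rfl⟩ := hg'
    have hnB : n ∈ D.B := by
      have := D.B.mul_mem (D.B.mul_mem (D.B.inv_mem hb) hg) (D.B.inv_mem hc)
      simpa [mul_assoc] using this
    have hnH : n ∈ D.H := (N_inf_B ax).le ⟨hn, hnB⟩
    exact acts_unique ax (acts_H ax hnH) hσ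
  | succ k ih =>
    intro l l' hk hle g hg hg'
    have hne : D.wl l ≠ 1 := fun h => by rw [h, inv_one] at hk; omega
    obtain ⟨i, hi⟩ := exists_descent ax hne
    have h1 := inv_refl_mul_neg ax l hi
    -- move both elements by `nn i`, keeping track of the common element
    have hm : D.nw (i :: l) ∈ D.cell (D.wl (i :: l)) := mem_cell_of (nw_mem_N _) (acts_nw ax _)
    obtain ⟨b, hb, c, hc, e⟩ := (mem_cell_iff ax (nw_mem_N l) (acts_nw ax l)).1 hg
    have hx : b⁻¹ * g * c⁻¹ ∈ D.cell (D.wl l') := mul_mem_cell hg' (D.B.inv_mem hb) (D.B.inv_mem hc)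
    have hx' : D.nn i * (b⁻¹ * g * c⁻¹) = D.nw (i :: l) := by rw [e]; simp [mul_assoc]
    rcases nn_mul_cell ax (i := i) hx with h2 | h2 <;> rw [hx'] at h2
    · have h3 := ih (i :: l) (i :: l') (by rw [wl_cons]; omega)
        (by
          rw [wl_cons, wl_cons]
          by_cases hp : D.Pos ((D.wl l')⁻¹ (D.simp i))
          · have := inv_refl_mul ax l' hp; omega
          · have := inv_refl_mul_neg ax l' hp; omega) _ hm (by simpa using h2)
      have := congrArg (fun σ => D.refl i * σ) h3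
      simpa only [wl_cons, refl_mul_refl_mul ax] using this
    · have h3 := ih (i :: l) l' (by rw [wl_cons]; omega) (by rw [wl_cons]; omega) _ hm h2
      rw [wl_cons] at h3
      rw [← h3] at hle
      omega

/-! ### Counting -/

omit ax in
/-- The left cosets of `B` in a cell. -/
def cosets (D : Data M ι κ) (σ : Equiv.Perm ι) : Set (M ⧸ D.B) := QuotientGroup.mk '' D.cell σ

omit ax in
theorem mem_cosets {σ : Equiv.Perm ι} {g : M} :
    (QuotientGroup.mk g : M ⧸ D.B) ∈ D.cosets σ ↔ g ∈ D.cell σ := by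
  refine ⟨?_, fun h => ⟨g, h, rfl⟩⟩
  rintro ⟨g', hg', e⟩
  have := mul_mem_cell hg' D.B.one_mem (QuotientGroup.eq.1 e)
  simpa using this

theorem card_cosets_one : Nat.card (D.cosets 1) = 1 := by
  rw [Nat.card_eq_one_iff_exists]
  refine ⟨⟨QuotientGroup.mk 1, mem_cosets.2 ((mem_cell_one ax).2 D.B.one_mem)⟩, ?_⟩
  rintro ⟨q, hq⟩
  obtain ⟨g, rfl⟩ := QuotientGroup.mk_surjective q
  apply Subtype.ext
  apply QuotientGroup.eq.2
  simpa using (mem_cell_one ax).1 (mem_cosets.1 hq)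

theorem card_cosets_step [Finite ι] {i : κ} (l : List κ) (hpos : D.Pos ((D.wl l)⁻¹ (D.simp i))) :
    Nat.card (D.cosets (D.refl i * D.wl l)) = Nat.card (D.X (D.simp i)) * Nat.card (D.cosets (D.wl l)) := by
  rw [← Nat.card_prod]
  symm
  let f : D.X (D.simp i) × D.cosets (D.wl l) → D.cosets (D.refl i * D.wl l) := fun p =>
    ⟨((p.1 : M) * D.nn i) • (p.2 : M ⧸ D.B), by
      obtain ⟨g, hg⟩ := QuotientGroup.mk_surjective (p.2 : M ⧸ D.B)
      have hc : g ∈ D.cell (D.wl l) := mem_cosets.1 (hg ▸ p.2.2)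
      rw [← hg, MulAction.Quotient.smul_mk, mem_cosets, smul_eq_mul, mul_assoc]
      simpa using mul_mem_cell (nn_mul_cell_pos ax hpos hc) (X_simp_le_B ax i p.1.2) D.B.one_mem⟩
  refine Nat.card_congr (Equiv.ofBijective f ⟨?_, ?_⟩)
  · rintro ⟨y, q, hq⟩ ⟨y', q', hq'⟩ h
    obtain ⟨g, rfl⟩ := QuotientGroup.mk_surjective q
    obtain ⟨g', rfl⟩ := QuotientGroup.mk_surjective q'
    have h' : ((y : M) * D.nn i) • (QuotientGroup.mk g : M ⧸ D.B) = ((y' : M) * D.nn i) • QuotientGroup.mk g' :=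
      congrArg Subtype.val h
    by_cases hy : y = y'
    · subst hy
      have := MulAction.injective (((y : M) * D.nn i)) h'
      simp [this]
    exfalso
    rw [MulAction.Quotient.smul_mk, MulAction.Quotient.smul_mk, QuotientGroup.eq, smul_eq_mul,
      smul_eq_mul] at h'
    have hgc := mem_cosets.1 hq
    have hgc' := mem_cosets.1 hq'
    set d : M := (y' : M)⁻¹ * y with hd
    have hd' : d ∈ D.X (D.simp i) := (D.X _).mul_mem ((D.X _).inv_mem y'.2) y.2
    have hd1 : d ≠ 1 := fun h => hy (Subtype.ext (inv_mul_eq_one.1 h).symm)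
    have hz : (D.nn i)⁻¹ * d * D.nn i ∈ D.X (D.opp (D.simp i)) := by
      have := ((acts_nn ax i).inv (D.simp i) d).2 hd'
      rwa [inv_inv, refl_inv ax, ax.refl_simp] at this
    obtain ⟨a, ha, h0, hh0, b, hb, e⟩ := ax.rank_one i _ hz (fun h => hd1 (by
      simpa [inv_mul_eq_one, mul_assoc] using congrArg (fun w => D.nn i * w * (D.nn i)⁻¹) h))
    have h1 : (D.nn i)⁻¹ * d * D.nn i * g ∈ D.cell (D.wl l) := by
      have := mul_mem_cell hgc' D.B.one_mem (D.B.inv_mem h')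
      rw [one_mul] at this
      simpa [hd, mul_assoc] using this
    have h2 : (D.nn i)⁻¹ * d * D.nn i * g ∈ D.cell (D.refl i * D.wl l) := by
      rw [e]
      have := mul_mem_cell (nn_mul_cell_pos ax hpos
        (mul_mem_cell hgc (X_simp_le_B ax i hb) D.B.one_mem))
        (D.B.mul_mem (X_simp_le_B ax i ha) (H_le_B hh0)) D.B.one_mem
      simpa [mul_assoc] using this
    have h3 := cell_disjoint ax (l := l) (l' := i :: l) h1 (by simpa using h2)
    have := inv_refl_mul ax l hpos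
    rw [← wl_cons, ← h3] at this
    omega
  · rintro ⟨q, hq⟩
    obtain ⟨x, rfl⟩ := QuotientGroup.mk_surjective q
    obtain ⟨b, hb, c, hc, e⟩ := (mem_cell_iff ax (D.N.mul_mem (nn_mem_N i) (nw_mem_N l))
      ((acts_nn ax i).mul (acts_nw ax l))).1 (mem_cosets.1 hq)
    obtain ⟨y, hy, v, hv, h, hh, rfl⟩ := B_decomp ax i hb
    refine ⟨(⟨y, hy⟩, ⟨QuotientGroup.mk (((D.nn i)⁻¹ * (v * h) * D.nn i) * D.nw l), mem_cosets.2 ?_⟩), ?_⟩
    · simpa using mul_mem_cell (mem_cell_of (nw_mem_N l) (acts_nw ax l))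
        (nn_conj_rad ax (i := i) hv hh).2 D.B.one_mem
    · apply Subtype.ext
      show (y * D.nn i) • (QuotientGroup.mk _ : M ⧸ D.B) = _
      rw [MulAction.Quotient.smul_mk, QuotientGroup.eq, e, smul_eq_mul]
      simpa [mul_assoc] using hc

/-- `|B w B / B| = q ^ ℓ(w)`. -/
theorem card_cosets [Finite ι] {q : ℕ} (hq : ∀ i, Nat.card (D.X (D.simp i)) = q) (l : List κ) :
    Nat.card (D.cosets (D.wl l)) = q ^ D.inv (D.wl l) := by
  suffices key : ∀ k, ∀ l : List κ, D.inv (D.wl l) = k → Nat.card (D.cosets (D.wl l)) = q ^ k from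
    key _ l rfl
  intro k
  induction k with
  | zero => intro l h; rw [inv_eq_zero ax l h, card_cosets_one ax, pow_zero]
  | succ k ih =>
    intro l h
    have hne : D.wl l ≠ 1 := fun he => by rw [he, inv_one] at h; omega
    obtain ⟨i, hi⟩ := exists_descent ax hne
    have h1 := inv_refl_mul_neg ax l hi
    have hp : D.Pos ((D.wl (i :: l))⁻¹ (D.simp i)) := by
      rw [wl_cons, mul_inv_rev, Equiv.Perm.mul_apply, refl_inv ax, ax.refl_simp, ← wl_reverse ax,
        wl_opp ax, wl_reverse ax, ax.pos_opp]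
      exact hi
    have h2 := card_cosets_step ax (i :: l) hp
    rw [wl_cons, refl_mul_refl_mul ax] at h2
    rw [h2, hq, ← wl_cons (D := D), ih (i :: l) (by rw [wl_cons]; omega), ← pow_succ']

theorem B_le_grp : D.B ≤ D.grp := sup_le (iSup₂_le fun r _ => X_le_grp r) ax.H_le

theorem cell_subset_grp (l : List κ) : D.cell (D.wl l) ⊆ D.grp := by
  intro g hg
  obtain ⟨b, hb, c, hc, rfl⟩ := (mem_cell_iff ax (nw_mem_N l) (acts_nw ax l)).1 hg
  refine D.grp.mul_mem (D.grp.mul_mem (B_le_grp ax hb) ?_) (B_le_grp ax hc)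
  exact Subgroup.list_prod_mem _ fun _ hx => by
    obtain ⟨j, -, rfl⟩ := List.mem_map.1 hx; exact ax.nn_mem j

omit ax in
/-- The Weyl group as a finite set of permutations. -/
noncomputable def weyl [Finite ι] (D : Data M ι κ) : Finset (Equiv.Perm ι) :=
  (Set.toFinite (Set.range D.wl)).toFinset

omit ax in
theorem mem_weyl [Finite ι] {σ : Equiv.Perm ι} : σ ∈ D.weyl ↔ ∃ l, D.wl l = σ := by
  simp [Data.weyl]

/-- Order formula. -/
theorem card_grp [Finite ι] [Finite M] {q : ℕ} (hq : ∀ i, Nat.card (D.X (D.simp i)) = q) :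
    Nat.card D.grp = Nat.card D.B * ∑ σ ∈ D.weyl, q ^ D.inv σ := by
  classical
  have hset : (QuotientGroup.mk '' (D.grp : Set M) : Set (M ⧸ D.B)) = ⋃ σ ∈ D.weyl, D.cosets σ := by
    ext x
    simp only [Set.mem_image, SetLike.mem_coe, Set.mem_iUnion]
    constructor
    · rintro ⟨g, hg, rfl⟩
      obtain ⟨l, hl⟩ := exists_cell ax hg
      exact ⟨_, mem_weyl.2 ⟨l, rfl⟩, mem_cosets.2 hl⟩
    · rintro ⟨σ, hσ, g, hg, rfl⟩
      obtain ⟨l, rfl⟩ := mem_weyl.1 hσ
      exact ⟨g, cell_subset_grp ax l hg, rfl⟩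
  have hdisj : (D.weyl : Set (Equiv.Perm ι)).PairwiseDisjoint D.cosets := by
    intro σ hσ τ hτ hne
    rw [Function.onFun, Set.disjoint_left]
    rintro x hx hx'
    obtain ⟨g, rfl⟩ := QuotientGroup.mk_surjective x
    obtain ⟨l, rfl⟩ := mem_weyl.1 hσ
    obtain ⟨l', rfl⟩ := mem_weyl.1 hτ
    exact hne (cell_disjoint ax (mem_cosets.1 hx) (mem_cosets.1 hx'))
  have hcount : Nat.card (QuotientGroup.mk '' (D.grp : Set M) : Set (M ⧸ D.B)) =
      ∑ σ ∈ D.weyl, q ^ D.inv σ := by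
    have := Finset.card_biUnion (s := D.weyl) (t := fun σ => (Set.toFinite (D.cosets σ)).toFinset)
      (fun σ hσ τ hτ hne => by
        simpa [Finset.disjoint_left, Set.disjoint_left] using hdisj hσ hτ hne)
    rw [hset, Nat.card_eq_card_finite_toFinset (Set.toFinite _)]
    rw [show (Set.toFinite (⋃ σ ∈ D.weyl, D.cosets σ)).toFinset =
      D.weyl.biUnion fun σ => (Set.toFinite (D.cosets σ)).toFinset by ext; simp, this]
    refine Finset.sum_congr rfl fun σ hσ => ?_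
    obtain ⟨l, rfl⟩ := mem_weyl.1 hσ
    rw [← Nat.card_eq_card_finite_toFinset, card_cosets ax hq l]
  rw [← hcount, ← QuotientGroup.card_preimage_mk]
  refine Nat.card_congr (Equiv.setCongr ?_)
  ext g
  simp only [Set.mem_preimage, Set.mem_image, SetLike.mem_coe]
  refine ⟨fun hg => ⟨g, hg, rfl⟩, ?_⟩
  rintro ⟨g', hg', e⟩
  simpa using D.grp.mul_mem hg' (B_le_grp ax (QuotientGroup.eq.1 e))

end Data

end Cfsg.Agent.RootBN
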