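/-
The sum of `q ^ ℓ(w)` over the Weyl group, computed level by level from lists of minimal coset
representatives of the standard parabolic subgroups.
-/
import Cfsg.Agent.Lib.RootBN.Setup

set_option autoImplicit false

namespace Cfsg.Agent.RootBN

namespace Data

variable {M : Type*} [Group M] {ι : Type*} {κ : Type*} {D : Data M ι κ}

/-- The words in the letters of `J`, as permutations. -/
noncomputable def weylJ [Finite ι] (D : Data M ι κ) (J : List κ) : Finset (Equiv.Perm ι) :=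
  (Set.toFinite {σ | ∃ l : List κ, (∀ x ∈ l, x ∈ J) ∧ D.wl l = σ}).toFinset

theorem mem_weylJ [Finite ι] {J : List κ} {σ : Equiv.Perm ι} :
    σ ∈ D.weylJ J ↔ ∃ l : List κ, (∀ x ∈ l, x ∈ J) ∧ D.wl l = σ := by
  simp [Data.weylJ]

theorem weyl_eq_weylJ [Finite ι] {J : List κ} (hJ : ∀ x, x ∈ J) : D.weyl = D.weylJ J := by
  ext σ
  rw [mem_weyl, mem_weylJ]
  exact ⟨fun ⟨l, h⟩ => ⟨l, fun x _ => hJ x, h⟩, fun ⟨l, _, h⟩ => ⟨l, h⟩⟩

theorem sum_weylJ_nil [Finite ι] (q : ℕ) : ∑ σ ∈ D.weylJ [], q ^ D.inv σ = 1 := by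
  have : D.weylJ [] = {1} := by
    ext σ
    rw [mem_weylJ, Finset.mem_singleton]
    refine ⟨?_, fun h => ⟨[], by simp, by simp [h]⟩⟩
    rintro ⟨l, hl, rfl⟩
    cases l with
    | nil => simp
    | cons a l => exact absurd (hl a List.mem_cons_self) List.not_mem_nil
  rw [this]
  simp [inv_one]

/-- A word whose steps all go up. -/
def Ascending (D : Data M ι κ) : List κ → Prop
  | [] => True
  | a :: d => D.Pos (D.wl d.reverse (D.simp a)) ∧ Ascending D d

instance decidableAscending [DecidablePred D.Pos] : (d : List κ) → Decidable (Ascending D d)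
  | [] => isTrue trivial
  | _ :: d => @instDecidableAnd _ _ _ (decidableAscending d)

variable (ax : D.Axioms)
include ax

/-- A product of reflections is determined by the images of the simple roots. -/
theorem wl_ext {a b : List κ} (h : ∀ i, D.wl a (D.simp i) = D.wl b (D.simp i)) : D.wl a = D.wl b := by
  have h1 : D.wl (b.reverse ++ a) = 1 := by
    by_contra hne
    obtain ⟨i, hi⟩ := exists_simp_neg ax _ hne
    apply hi
    rw [wl_append, wl_reverse ax, Equiv.Perm.mul_apply, h i, Equiv.Perm.inv_def, Equiv.symm_apply_apply]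
    exact ax.pos_simp i
  rw [wl_append, wl_reverse ax, inv_mul_eq_one] at h1
  exact h1.symm

theorem inv_eq_length [Finite ι] : ∀ {d : List κ}, Ascending D d → D.inv (D.wl d) = d.length
  | [], _ => inv_one
  | a :: d, h => by
    rw [wl_cons, inv_refl_mul ax d (by rw [← wl_reverse ax]; exact h.1), inv_eq_length h.2,
      List.length_cons]

variable {J J' : List κ} {Φ : ι → Prop} {reps : List (List κ)}

/-- One level. -/
theorem sum_weylJ_step [Finite ι] [DecidableEq κ]
    (hΦ : ∀ j ∈ J, Φ (D.simp j))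
    (hΦr : ∀ j ∈ J, ∀ r, Φ (D.refl j r) ↔ Φ r)
    (hΦo : ∀ r, Φ (D.opp r) ↔ Φ r)
    (hmem : ∀ d ∈ reps, ∀ x ∈ d, x ∈ J')
    (hJJ : ∀ j ∈ J, j ∈ J')
    (hnil : [] ∈ reps)
    (hclosed : ∀ a ∈ J', ∀ d ∈ reps, ∃ d' ∈ reps, ∃ v : List κ, (∀ x ∈ v, x ∈ J) ∧
      ∀ i, D.wl (a :: d) (D.simp i) = D.wl (d' ++ v) (D.simp i))
    (hmin : ∀ d ∈ reps, ∀ r, D.Pos r → Φ r → D.Pos (D.wl d r))
    (hasc : ∀ d ∈ reps, Ascending D d)
    (hdist : (reps.map fun d => fun i => D.wl d (D.simp i)).Nodup)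
    (q : ℕ) :
    ∑ σ ∈ D.weylJ J', q ^ D.inv σ =
      (reps.map fun d => q ^ d.length).sum * ∑ σ ∈ D.weylJ J, q ^ D.inv σ := by
  classical
  -- words in `J` keep positivity outside `Φ`
  have hout : ∀ v : List κ, (∀ x ∈ v, x ∈ J) → ∀ r, (Φ (D.wl v r) ↔ Φ r) ∧
      (¬ Φ r → (D.Pos (D.wl v r) ↔ D.Pos r)) := by
    intro v hv
    induction v with
    | nil => intro r; simp
    | cons j v ih =>
      intro r
      have hj := hv j List.mem_cons_self
      obtain ⟨h1, h2⟩ := ih (fun x hx => hv x (List.mem_cons_of_mem _ hx)) r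
      refine ⟨by rw [wl_cons, Equiv.Perm.mul_apply, hΦr j hj, h1], fun hr => ?_⟩
      rw [wl_cons, Equiv.Perm.mul_apply, ← h2 hr]
      set s := D.wl v r with hs
      have hsΦ : ¬ Φ s := fun h => hr (h1.1 h)
      constructor
      · intro hp
        have := ax.refl_pos j _ hp (fun e => hsΦ ((hΦr j hj s).1 (e ▸ hΦ j hj)))
        rwa [ax.refl_refl] at this
      · intro hp
        exact ax.refl_pos j _ hp (fun e => hsΦ (e ▸ hΦ j hj))
  -- lengths add
  have hadd : ∀ d ∈ reps, ∀ v : List κ, (∀ x ∈ v, x ∈ J) →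
      D.inv (D.wl (d ++ v)) = d.length + D.inv (D.wl v) := by
    intro d hd v hv
    rw [← inv_eq_length ax (hasc d hd), add_comm]
    have hset : {r | D.Pos r ∧ ¬ D.Pos (D.wl (d ++ v) r)} =
        {r | D.Pos r ∧ ¬ D.Pos (D.wl v r)} ∪ (⇑(D.wl v)⁻¹) '' {r | D.Pos r ∧ ¬ D.Pos (D.wl d r)} := by
      ext r
      simp only [Set.mem_union, Set.mem_setOf_eq, Set.mem_image, wl_append, Equiv.Perm.mul_apply]
      constructor
      · rintro ⟨hr, hn⟩
        by_cases hp : D.Pos (D.wl v r)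
        · exact Or.inr ⟨D.wl v r, ⟨hp, hn⟩, by simp⟩
        · exact Or.inl ⟨hr, hp⟩
      · rintro (⟨hr, hn⟩ | ⟨s, ⟨hs, hn⟩, rfl⟩)
        · refine ⟨hr, ?_⟩
          have hΦr' : Φ r := by
            by_contra h
            exact hn (((hout v hv r).2 h).2 hr)
          have := hmin d hd (D.opp (D.wl v r)) ((ax.pos_opp _).2 hn)
            ((hΦo _).2 ((hout v hv r).1.2 hΦr'))
          rwa [wl_opp ax, ax.pos_opp] at this
        · have hsΦ : ¬ Φ s := fun h => hn (hmin d hd s hs h)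
          refine ⟨?_, by simpa using hn⟩
          have h' : ¬ Φ ((D.wl v)⁻¹ s) := fun h => hsΦ (by simpa using (hout v hv _).1.2 h)
          exact ((hout v hv _).2 h').1 (by simpa using hs)
    rw [Data.inv, hset, Set.ncard_union_eq ?_ (Set.toFinite _) (Set.toFinite _),
      Set.ncard_image_of_injective _ (Equiv.injective _)]
    · rfl
    · rw [Set.disjoint_left]
      rintro r ⟨-, hn⟩ ⟨s, ⟨hs, -⟩, rfl⟩
      exact hn (by simpa using hs)
  have key : ∀ d ∈ reps, ∀ d' ∈ reps, ∀ v : List κ, (∀ x ∈ v, x ∈ J) →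
      D.wl d = D.wl (d' ++ v) → d = d' := by
    intro d hd d' hd' v hv e
    have e' : D.wl d' = D.wl (d ++ v.reverse) := by
      rw [wl_append, e, wl_append, wl_reverse ax, mul_inv_cancel_right]
    have a1 := hadd d' hd' v hv
    have a2 := hadd d hd v.reverse (fun x hx => hv x (List.mem_reverse.1 hx))
    rw [← e, inv_eq_length ax (hasc d hd)] at a1
    rw [← e', inv_eq_length ax (hasc d' hd')] at a2
    have hv1 := inv_eq_zero ax v (by omega)
    rw [wl_append, hv1, mul_one] at e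
    exact List.inj_on_of_nodup_map hdist hd hd' (funext fun i => by rw [e])
  have hnd : reps.Nodup := List.Nodup.of_map _ hdist
  rw [← List.sum_toFinset _ hnd, Finset.sum_mul_sum, ← Finset.sum_product']
  refine (Finset.sum_bij (fun p _ => D.wl p.1 * p.2) ?_ ?_ ?_ ?_).symm
  · rintro ⟨d, σ⟩ hp
    rw [Finset.mem_product, List.mem_toFinset] at hp
    obtain ⟨v, hv, rfl⟩ := mem_weylJ.1 hp.2
    refine mem_weylJ.2 ⟨d ++ v, ?_, wl_append d v⟩
    intro x hx
    rcases List.mem_append.1 hx with h | h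
    exacts [hmem d hp.1 x h, hJJ x (hv x h)]
  · rintro ⟨d, σ⟩ hp ⟨d', σ'⟩ hp' e
    rw [Finset.mem_product, List.mem_toFinset] at hp hp'
    obtain ⟨v, hv, rfl⟩ := mem_weylJ.1 hp.2
    obtain ⟨v', hv', rfl⟩ := mem_weylJ.1 hp'.2
    simp only at e
    have e1 : D.wl d = D.wl (d' ++ (v' ++ v.reverse)) := by
      rw [wl_append, wl_append, wl_reverse ax, ← mul_assoc, ← e, mul_inv_cancel_right]
    have : d = d' := key d hp.1 d' hp'.1 _ (fun x hx => by
      rcases List.mem_append.1 hx with h | h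
      exacts [hv' x h, hv x (List.mem_reverse.1 h)]) e1
    subst this
    rw [mul_left_cancel e]
  · intro σ hσ
    obtain ⟨l, hl, rfl⟩ := mem_weylJ.1 hσ
    suffices ∃ d ∈ reps, ∃ v : List κ, (∀ x ∈ v, x ∈ J) ∧ D.wl l = D.wl d * D.wl v by
      obtain ⟨d, hd, v, hv, e⟩ := this
      exact ⟨(d, D.wl v), Finset.mem_product.2 ⟨List.mem_toFinset.2 hd, mem_weylJ.2 ⟨v, hv, rfl⟩⟩, e.symm⟩
    clear hσ
    induction l with
    | nil => exact ⟨[], hnil, [], by simp, by simp⟩
    | cons a l ih =>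
      obtain ⟨d, hd, v, hv, e⟩ := ih (fun x hx => hl x (List.mem_cons_of_mem _ hx))
      obtain ⟨d', hd', v', hv', e'⟩ := hclosed a (hl a List.mem_cons_self) d hd
      refine ⟨d', hd', v' ++ v, ?_, ?_⟩
      · intro x hx
        rcases List.mem_append.1 hx with h | h
        exacts [hv' x h, hv x h]
      · have := wl_ext ax e'
        rw [wl_cons, wl_append] at this
        rw [wl_cons, e, ← mul_assoc, this, wl_append, mul_assoc]
  · rintro ⟨d, σ⟩ hp
    rw [Finset.mem_product, List.mem_toFinset] at hp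
    obtain ⟨v, hv, rfl⟩ := mem_weylJ.1 hp.2
    rw [← pow_add, ← wl_append, hadd d hp.1 v hv]

end Data

end Cfsg.Agent.RootBN
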