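/-
Checkable tables for the Poincaré sum of a Weyl group given by packed permutation tables of the
simple reflections on the roots `0, …, n-1` (negative roots first, `r ↦ n-1-r` is negation).
-/
import Cfsg.Agent.Lib.RootBN.Poincare

set_option autoImplicit false

namespace Cfsg.Agent.RootBN

/-- Lookup in a packed table with 8 bits per entry. -/
def look (t r : ℕ) : ℕ := (t >>> (8 * r)) % 256

/-- Evaluation of a word on a root. -/
def evWord (tabs : List ℕ) : List ℕ → ℕ → ℕ
  | [], r => r
  | a :: d, r => look (tabs.getD a 0) (evWord tabs d r)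

/-- One level of the certificate: coset representatives, the transition table and the root set. -/
structure Level where
  /-- representatives -/
  reps : List (List ℕ)
  /-- for each representative and letter: index of the representative and the remaining word -/
  edges : List (List (ℕ × List ℕ))
  /-- the roots of the previous parabolic system -/
  phi : ℕ

/-- Every step of a word goes up. -/
def ascOK (n : ℕ) (tabs simps : List ℕ) : List ℕ → Bool
  | [] => true
  | a :: d => decide (n / 2 ≤ evWord tabs d.reverse (simps.getD a 0)) && ascOK n tabs simps d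

/-- The check of the level from `k` to `k + 1` letters. -/
def levelOK (n : ℕ) (tabs simps : List ℕ) (k : ℕ) (L : Level) : Bool :=
  (List.range k).all (fun j => L.phi.testBit (simps.getD j 0) &&
      (List.range n).all fun r => L.phi.testBit (look (tabs.getD j 0) r) == L.phi.testBit r) &&
  (List.range n).all (fun r => L.phi.testBit (n - 1 - r) == L.phi.testBit r) &&
  L.reps.contains [] &&
  L.reps.all (fun d => d.all (fun x => decide (x < k + 1))) &&
  L.reps.all (fun d => ascOK n tabs simps d) &&
  L.reps.all (fun d => (List.range n).all fun r =>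
    decide (r < n / 2) || !L.phi.testBit r || decide (n / 2 ≤ evWord tabs d r)) &&
  decide (L.reps.map fun d => simps.map (evWord tabs d)).Nodup &&
  (List.range L.reps.length).all (fun di => (List.range (k + 1)).all fun a =>
    let e := (L.edges.getD di []).getD a (0, [])
    decide (e.1 < L.reps.length) && e.2.all (fun x => decide (x < k)) &&
      simps.all fun p => evWord tabs (a :: L.reps.getD di []) p ==
        evWord tabs (L.reps.getD e.1 []) (evWord tabs e.2 p))

/-- The check of all levels. -/
def levelsOK (n : ℕ) (tabs simps : List ℕ) : ℕ → List Level → Bool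
  | _, [] => true
  | k, L :: Ls => levelOK n tabs simps k L && levelsOK n tabs simps (k + 1) Ls

/-- Contribution of the levels. -/
def levelsPoly (q : ℕ) : List Level → ℕ
  | [] => 1
  | L :: Ls => levelsPoly q Ls * (L.reps.map fun d => q ^ d.length).sum

namespace Data

variable {M : Type*} [Group M] {n l : ℕ} {D : Data M (Fin n) (Fin l)} {tabs simps : List ℕ}
  (ax : D.Axioms)
  (hrefl : ∀ i s, (D.refl i s).val = look (tabs.getD i.val 0) s.val)
  (hpos : ∀ r, D.Pos r ↔ n / 2 ≤ r.val)
  (hopp : ∀ r, (D.opp r).val = n - 1 - r.val)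
  (hsimp : ∀ i, (D.simp i).val = simps.getD i.val 0)
  (hlen : simps.length = l)

include hrefl in
theorem evWord_eq (d : List (Fin l)) (r : Fin n) :
    evWord tabs (d.map Fin.val) r.val = (D.wl d r).val := by
  induction d with
  | nil => rfl
  | cons a d ih => simp only [List.map_cons, evWord, ih, wl_cons, Equiv.Perm.mul_apply, hrefl]

/-- The letters below `k`. -/
def letters (l k : ℕ) : List (Fin l) := (List.finRange l).filter fun i => decide (i.val < k)

theorem mem_letters {k : ℕ} {i : Fin l} : i ∈ letters l k ↔ i.val < k := by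
  simp [letters]

/-- Reading a list of numbers as letters. -/
def toFin (d : List ℕ) : List (Fin l) := d.filterMap fun x => if h : x < l then some ⟨x, h⟩ else none

theorem map_val_toFin : ∀ {d : List ℕ}, (∀ x ∈ d, x < l) → (toFin (l := l) d).map Fin.val = d
  | [], _ => rfl
  | x :: d, h => by
    have ih := map_val_toFin (d := d) fun y hy => h y (List.mem_cons_of_mem _ hy)
    rw [toFin] at ih ⊢
    rw [List.filterMap_cons_some (by rw [dif_pos (h x List.mem_cons_self)]), List.map_cons, ih]

theorem ascending_of_ascOK (hrefl : ∀ i s, (D.refl i s).val = look (tabs.getD i.val 0) s.val)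
    (hpos : ∀ r, D.Pos r ↔ n / 2 ≤ r.val) (hsimp : ∀ i, (D.simp i).val = simps.getD i.val 0) :
    ∀ d : List (Fin l), ascOK n tabs simps (d.map Fin.val) = true → Ascending D d
  | [], _ => trivial
  | a :: d, h => by
    simp only [List.map_cons, ascOK, Bool.and_eq_true, decide_eq_true_eq] at h
    refine ⟨?_, ascending_of_ascOK hrefl hpos hsimp d h.2⟩
    rw [hpos, ← evWord_eq hrefl, List.map_reverse, hsimp]
    exact h.1

include ax hrefl hpos hopp hsimp hlen

theorem sum_weylJ_level {k : ℕ} {L : Level} (hk : k + 1 ≤ l)
    (h : levelOK n tabs simps k L = true) (q : ℕ) :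
    ∑ σ ∈ D.weylJ (letters l (k + 1)), q ^ D.inv σ =
      (L.reps.map fun d => q ^ d.length).sum * ∑ σ ∈ D.weylJ (letters l k), q ^ D.inv σ := by
  simp only [levelOK, Bool.and_eq_true, List.all_eq_true, List.mem_range, decide_eq_true_eq, beq_iff_eq,
    List.contains_eq_mem, Bool.or_eq_true, Bool.not_eq_true'] at h
  obtain ⟨⟨⟨⟨⟨⟨⟨hj, ho⟩, hnil⟩, hlet⟩, hasc⟩, hmin⟩, hnd⟩, hedge⟩ := h
  set reps : List (List (Fin l)) := L.reps.map toFin with hreps
  have hval : ∀ d ∈ L.reps, (toFin (l := l) d).map Fin.val = d := fun d hd =>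
    map_val_toFin fun x hx => by have := hlet d hd x hx; omega
  have hsum : (L.reps.map fun d => q ^ d.length).sum = (reps.map fun d => q ^ d.length).sum := by
    rw [hreps, List.map_map]
    refine congrArg _ (List.map_congr_left fun d hd => ?_)
    simp only [Function.comp_apply]
    congr 1
    have := congrArg List.length (hval d hd)
    rw [List.length_map] at this
    exact this.symm
  rw [hsum]
  refine sum_weylJ_step ax (Φ := fun r => L.phi.testBit r.val = true) ?_ ?_ ?_ ?_ ?_ ?_ ?_ ?_ ?_ ?_ q
  · intro j hj'
    have := (hj j.val (mem_letters.1 hj')).1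
    rwa [← hsimp] at this
  · intro j hj' r
    have := (hj j.val (mem_letters.1 hj')).2 r.val r.2
    rw [← hrefl] at this
    rw [this]
  · intro r
    have := ho r.val r.2
    rw [← hopp] at this
    rw [this]
  · intro d hd x hx
    obtain ⟨d₀, hd₀, rfl⟩ := List.mem_map.1 hd
    rw [mem_letters]
    refine hlet d₀ hd₀ x.val ?_
    rw [← hval d₀ hd₀]
    exact List.mem_map_of_mem hx
  · intro j hj'
    rw [mem_letters] at hj' ⊢
    omega
  · exact List.mem_map.2 ⟨[], hnil, rfl⟩
  · intro a ha d hd
    obtain ⟨d₀, hd₀, rfl⟩ := List.mem_map.1 hd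
    obtain ⟨di, hdi, e⟩ := List.getElem_of_mem hd₀
    obtain ⟨⟨he1, he2⟩, he3⟩ := hedge di hdi a.val (mem_letters.1 ha)
    rw [List.getD_eq_getElem (d := []) (hn := hdi), e] at he3
    set ed := (L.edges.getD di []).getD a.val (0, []) with hed
    have hd' : L.reps.getD ed.1 [] ∈ L.reps := by
      rw [List.getD_eq_getElem (d := []) (hn := he1)]; exact List.getElem_mem _
    have hv : (toFin (l := l) ed.2).map Fin.val = ed.2 :=
      map_val_toFin fun x hx => by have := he2 x hx; omega
    refine ⟨toFin (L.reps.getD ed.1 []), List.mem_map_of_mem hd', toFin ed.2, ?_, ?_⟩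
    · intro x hx
      rw [mem_letters]
      refine he2 x.val ?_
      rw [← hv]
      exact List.mem_map_of_mem hx
    · intro i
      have := he3 (simps.getD i.val 0) (by
        rw [List.getD_eq_getElem (d := 0) (hn := by omega)]; exact List.getElem_mem _)
      apply Fin.ext
      rw [← evWord_eq hrefl, wl_append, Equiv.Perm.mul_apply, ← evWord_eq hrefl (toFin (L.reps.getD ed.1 [])),
        ← evWord_eq hrefl (toFin ed.2), hv, hval _ hd', List.map_cons, hval d₀ hd₀, hsimp]
      exact this
  · intro d hd r hr hΦ
    obtain ⟨d₀, hd₀, rfl⟩ := List.mem_map.1 hd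
    rw [hpos] at hr ⊢
    rw [← evWord_eq hrefl, hval d₀ hd₀]
    rcases hmin d₀ hd₀ r.val r.2 with (h1 | h1) | h1
    · omega
    · rw [hΦ] at h1; exact absurd h1 (by simp)
    · exact h1
  · intro d hd
    obtain ⟨d₀, hd₀, rfl⟩ := List.mem_map.1 hd
    apply ascending_of_ascOK hrefl hpos hsimp
    rw [hval d₀ hd₀]
    exact hasc d₀ hd₀
  · rw [hreps, List.map_map]
    rw [List.nodup_map_iff_inj_on (List.Nodup.of_map _ hnd)]
    intro d hd d' hd' e
    refine List.inj_on_of_nodup_map hnd hd hd' (List.ext_getElem (by simp) fun i hi hi' => ?_)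
    rw [List.length_map] at hi
    have hi2 : i < l := hlen ▸ hi
    have := congrArg Fin.val (congrFun e ⟨i, hi2⟩)
    simp only [Function.comp_apply, ← evWord_eq hrefl, hval d hd, hval d' hd', hsimp,
      List.getD_eq_getElem (d := 0) (hn := hi)] at this
    simpa using this

theorem sum_weylJ_levels (q : ℕ) : ∀ (Ls : List Level) (k : ℕ), k + Ls.length = l →
    levelsOK n tabs simps k Ls = true →
    ∑ σ ∈ D.weylJ (letters l l), q ^ D.inv σ =
      levelsPoly q Ls * ∑ σ ∈ D.weylJ (letters l k), q ^ D.inv σ
  | [], k, hk, _ => by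
    simp only [List.length_nil, add_zero] at hk
    subst hk
    simp [levelsPoly]
  | L :: Ls, k, hk, h => by
    simp only [levelsOK, Bool.and_eq_true] at h
    simp only [List.length_cons] at hk
    rw [sum_weylJ_levels q Ls (k + 1) (by omega) h.2,
      sum_weylJ_level ax hrefl hpos hopp hsimp hlen (by omega) h.1 q, levelsPoly, mul_assoc]

/-- The Poincaré sum from a checked certificate. -/
theorem sum_weyl_of_levels (Ls : List Level) (hLs : Ls.length = l)
    (h : levelsOK n tabs simps 0 Ls = true) (q : ℕ) :
    ∑ σ ∈ D.weyl, q ^ D.inv σ = levelsPoly q Ls := by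
  rw [weyl_eq_weylJ (J := letters l l) (fun x => mem_letters.2 x.2),
    sum_weylJ_levels ax hrefl hpos hopp hsimp hlen q Ls 0 (by omega) h]
  have : letters l 0 = [] := by simp [letters]
  rw [this, sum_weylJ_nil, mul_one]

end Data

end Cfsg.Agent.RootBN
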