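/-
The (B,N)-pair of a group with root subgroups, on the subgroup they generate.
-/
import Cfsg.Agent.Lib.RootBN.Setup
import Cfsg.Prelude.Def_LieExceptional

set_option autoImplicit false

namespace Cfsg.Agent.RootBN

namespace Data

variable {M : Type*} [Group M] {ι : Type*} {κ : Type*} {D : Data M ι κ} (ax : D.Axioms)
include ax

theorem N_le_grp : D.N ≤ D.grp := by
  rw [Data.N, Subgroup.closure_le]
  rintro x (hx | ⟨i, rfl⟩)
  exacts [ax.H_le hx, ax.nn_mem i]

theorem grp_le_B_sup_N : D.grp ≤ D.B ⊔ D.N := by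
  refine iSup_le fun r y hy => ?_
  obtain ⟨l, i, rfl⟩ := ax.reach r
  have hmem : (D.nw l)⁻¹ * y * D.nw l ∈ D.X (D.simp i) := by
    apply ((acts_nw ax l) (D.simp i) _).1
    simpa [mul_assoc] using hy
  have h1 := (D.B ⊔ D.N).mul_mem ((D.B ⊔ D.N).mul_mem (Subgroup.mem_sup_right (nw_mem_N l))
    (Subgroup.mem_sup_left (X_simp_le_B ax i hmem)))
    ((D.B ⊔ D.N).inv_mem (Subgroup.mem_sup_right (nw_mem_N l)))
  simpa [mul_assoc] using h1

theorem refl_injective : Function.Injective D.refl := by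
  intro i j h
  by_contra hne
  have := ax.refl_pos j _ (ax.pos_simp i) (fun e => hne (ax.simp_inj e))
  rw [← h, ax.refl_simp] at this
  exact not_pos_opp_simp ax i this

/-- The (B,N)-pair. -/
def bnPair : Cfsg.BNPair D.grp where
  B := D.B.subgroupOf D.grp
  N := D.N.subgroupOf D.grp
  S := {g | ∃ i, (g : M) = D.nn i}
  sup_eq_top := by
    apply Subgroup.map_injective (Subgroup.subtype_injective D.grp)
    rw [Subgroup.map_sup, Subgroup.map_subgroupOf_eq_of_le (B_le_grp ax),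
      Subgroup.map_subgroupOf_eq_of_le (N_le_grp ax), ← MonoidHom.range_eq_map, Subgroup.range_subtype]
    exact le_antisymm (sup_le (B_le_grp ax) (N_le_grp ax)) (grp_le_B_sup_N ax)
  conj_mem := by
    intro n hn t ht
    rw [Subgroup.mem_subgroupOf]
    exact H_le_B (N_conj_H ax hn ((N_inf_B ax).le ⟨ht.2, ht.1⟩))
  subset := by
    rintro g ⟨i, hi⟩
    exact Subgroup.mem_subgroupOf.2 (hi ▸ nn_mem_N i)
  sq_mem := by
    rintro g ⟨i, hi⟩
    rw [Subgroup.mem_subgroupOf, Subgroup.coe_mul, hi]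
    exact H_le_B (ax.nn_sq i)
  inj := by
    rintro g ⟨i, hi⟩ g' ⟨j, hj⟩ h
    rw [Subgroup.mem_subgroupOf, Subgroup.coe_mul, Subgroup.coe_inv, hi, hj] at h
    have hH : (D.nn i)⁻¹ * D.nn j ∈ D.H :=
      (N_inf_B ax).le ⟨D.N.mul_mem (D.N.inv_mem (nn_mem_N i)) (nn_mem_N j), h⟩
    have e := acts_unique ax ((acts_nn ax i).inv.mul (acts_nn ax j)) (acts_H ax hH)
    rw [inv_mul_eq_one] at e
    obtain rfl := refl_injective ax e
    exact Subtype.ext (hi.trans hj.symm)
  closure_sup := by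
    refine le_antisymm (sup_le ?_ inf_le_right) ?_
    · rw [Subgroup.closure_le]
      rintro g ⟨i, hi⟩
      exact Subgroup.mem_subgroupOf.2 (hi ▸ nn_mem_N i)
    · intro g hg
      obtain ⟨h, hh, l, e⟩ := exists_word ax (Subgroup.mem_subgroupOf.1 hg)
      have hl : ∀ l : List κ, (⟨D.nw l, N_le_grp ax (nw_mem_N l)⟩ : D.grp) ∈
          Subgroup.closure {g : D.grp | ∃ i, (g : M) = D.nn i} := by
        intro l
        induction l with
        | nil => exact (Subgroup.closure _).one_mem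
        | cons i l ih =>
          have : (⟨D.nw (i :: l), N_le_grp ax (nw_mem_N _)⟩ : D.grp) =
              ⟨D.nn i, ax.nn_mem i⟩ * ⟨D.nw l, N_le_grp ax (nw_mem_N l)⟩ := Subtype.ext (by simp)
          rw [this]
          exact (Subgroup.closure _).mul_mem (Subgroup.subset_closure ⟨i, rfl⟩) ih
      have : g = ⟨h, ax.H_le hh⟩ * ⟨D.nw l, N_le_grp ax (nw_mem_N l)⟩ := Subtype.ext e
      rw [this]
      exact Subgroup.mul_mem _ (Subgroup.mem_sup_right
        ⟨Subgroup.mem_subgroupOf.2 (H_le_B hh), Subgroup.mem_subgroupOf.2 (H_le_N hh)⟩)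
        (Subgroup.mem_sup_left (hl l))
  mul_mem_union := by
    rintro s ⟨i, hi⟩ n hn b hb
    rw [Subgroup.mem_subgroupOf] at hn hb
    obtain ⟨l, hl⟩ := exists_acts ax hn
    have hc : (b : M) * n ∈ D.cell (D.wl l) := by
      simpa using mul_mem_cell (mem_cell_of hn hl) hb D.B.one_mem
    have key : ∀ (m : D.grp) (σ : Equiv.Perm ι), (m : M) ∈ D.N → D.Acts (m : M) σ →
        ∀ x : D.grp, (x : M) ∈ D.cell σ →
          x ∈ DoubleCoset.doubleCoset m (D.B.subgroupOf D.grp : Set D.grp) (D.B.subgroupOf D.grp) := by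
      intro m σ hm hσ x hx
      obtain ⟨u, hu, v, hv, e⟩ := (mem_cell_iff ax hm hσ).1 hx
      rw [DoubleCoset.mem_doubleCoset]
      exact ⟨⟨u, B_le_grp ax hu⟩, Subgroup.mem_subgroupOf.2 hu, ⟨v, B_le_grp ax hv⟩,
        Subgroup.mem_subgroupOf.2 hv, Subtype.ext e⟩
    have hsn : ((s * n : D.grp) : M) = D.nn i * n := by rw [Subgroup.coe_mul, hi]
    have hx : ((s * b * n : D.grp) : M) = D.nn i * ((b : M) * n) := by simp [hi, mul_assoc]
    rcases nn_mul_cell ax (i := i) hc with h | h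
    · exact Or.inl (key (s * n) _ (hsn ▸ D.N.mul_mem (nn_mem_N i) hn)
        (hsn ▸ (acts_nn ax i).mul hl) _ (hx ▸ h))
    · exact Or.inr (key n _ hn hl _ (hx ▸ h))
  conj_ne := by
    rintro s ⟨i, hi⟩ he
    obtain ⟨y, hy1⟩ := Subgroup.ne_bot_iff_exists_ne_one.1 (ax.X_ne_bot (D.simp i))
    have hmem : (⟨(y : M), X_le_grp _ y.2⟩ : D.grp) ∈ D.B.subgroupOf D.grp :=
      Subgroup.mem_subgroupOf.2 (X_simp_le_B ax i y.2)
    have := (Set.ext_iff.1 he (s * ⟨(y : M), X_le_grp _ y.2⟩ * s)).1 ⟨_, hmem, rfl⟩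
    rw [SetLike.mem_coe, Subgroup.mem_subgroupOf] at this
    simp only [Subgroup.coe_mul, hi] at this
    have hz : D.nn i * y * (D.nn i)⁻¹ ∈ D.X (D.opp (D.simp i)) ⊓ D.B := by
      constructor
      · have := ax.conj_X i _ y y.2
        rwa [ax.refl_simp] at this
      · have := D.B.mul_mem this (D.B.inv_mem (H_le_B (ax.nn_sq i)))
        simpa [mul_assoc] using this
    rw [ax.neg_not_mem _ (not_pos_opp_simp ax i), Subgroup.mem_bot, conj_eq_one_iff] at hz
    exact hy1 (Subtype.ext hz)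

end Data

end Cfsg.Agent.RootBN
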