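import Cfsg.Agent.Lib.RootBN.Setup

/-!
# Fixed points of an endomorphism compatible with the root subgroups

`mem_of_fixed`: if `θ` fixes every `nn i`, preserves `B` and the simple root subgroups, and `K` contains
the `nn i` and the fixed elements of `B` and of the simple root subgroups, then it contains the fixed
elements of the group.
-/

set_option autoImplicit false

namespace Cfsg.Agent.RootBN.Data

variable {M : Type*} [Group M] {ι : Type*} {κ : Type*} {D : Data M ι κ}

variable (ax : D.Axioms)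
include ax

/-- The first factor of `y nn_i g`, `g` in a shorter cell, is unique. -/
theorem simp_factor_unique [Finite ι] {i : κ} (l : List κ) (hpos : D.Pos ((D.wl l)⁻¹ (D.simp i)))
    {y y' g g' : M} (hy : y ∈ D.X (D.simp i)) (hy' : y' ∈ D.X (D.simp i)) (hg : g ∈ D.cell (D.wl l))
    (hg' : g' ∈ D.cell (D.wl l)) (h : y * D.nn i * g = y' * D.nn i * g') : y = y' := by
  by_contra hne
  set d : M := y'⁻¹ * y with hd
  have hd' : d ∈ D.X (D.simp i) := (D.X _).mul_mem ((D.X _).inv_mem hy') hy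
  have hd1 : d ≠ 1 := fun h => hne (inv_mul_eq_one.1 h).symm
  have hz : (D.nn i)⁻¹ * d * D.nn i ∈ D.X (D.opp (D.simp i)) := by
    have := ((acts_nn ax i).inv (D.simp i) d).2 hd'
    rwa [inv_inv, refl_inv ax, ax.refl_simp] at this
  obtain ⟨a, ha, h0, hh0, b, hb, e⟩ := ax.rank_one i _ hz (fun h => hd1 (by
    simpa [inv_mul_eq_one, mul_assoc] using congrArg (fun w => D.nn i * w * (D.nn i)⁻¹) h))
  have hdg : (D.nn i)⁻¹ * d * D.nn i * g = g' := by
    rw [hd, show (D.nn i)⁻¹ * (y'⁻¹ * y) * D.nn i * g = (D.nn i)⁻¹ * (y'⁻¹ * (y * D.nn i * g)) by group, h]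
    group
  have h1 : (D.nn i)⁻¹ * d * D.nn i * g ∈ D.cell (D.wl l) := by rw [hdg]; exact hg'
  have h2 : (D.nn i)⁻¹ * d * D.nn i * g ∈ D.cell (D.refl i * D.wl l) := by
    rw [e]
    have := mul_mem_cell (nn_mul_cell_pos ax hpos
      (mul_mem_cell hg (X_simp_le_B ax i hb) D.B.one_mem))
      (D.B.mul_mem (X_simp_le_B ax i ha) (H_le_B hh0)) D.B.one_mem
    simpa [mul_assoc] using this
  have h3 := cell_disjoint ax (l := l) (l' := i :: l) h1 (by simpa using h2)
  have := inv_refl_mul ax l hpos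
  rw [← wl_cons, ← h3] at this
  omega

theorem mem_of_fixed [Finite ι] (θ : M →* M) (K : Subgroup M) (hθn : ∀ i, θ (D.nn i) = D.nn i)
    (hθB : ∀ b ∈ D.B, θ b ∈ D.B) (hθX : ∀ i, ∀ y ∈ D.X (D.simp i), θ y ∈ D.X (D.simp i))
    (hKn : ∀ i, D.nn i ∈ K) (hKB : ∀ b ∈ D.B, θ b = b → b ∈ K)
    (hKX : ∀ i, ∀ y ∈ D.X (D.simp i), θ y = y → y ∈ K) {g : M} (hg : g ∈ D.grp) (hfix : θ g = g) :
    g ∈ K := by
  have hnw : ∀ l, θ (D.nw l) = D.nw l := by
    intro l
    induction l with
    | nil => simp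
    | cons i l ih => rw [nw_cons, map_mul, hθn, ih]
  obtain ⟨l, hl⟩ := exists_cell ax hg
  suffices key : ∀ k, ∀ l : List κ, D.inv (D.wl l) = k → ∀ g ∈ D.cell (D.wl l), θ g = g → g ∈ K from
    key _ l rfl g hl hfix
  clear hl hfix hg g l
  intro k
  induction k with
  | zero =>
    intro l h g hg hfix
    rw [inv_eq_zero ax l h, mem_cell_one ax] at hg
    exact hKB g hg hfix
  | succ k ih =>
    intro l h g hg hfix
    have hne : D.wl l ≠ 1 := fun he => by rw [he, inv_one] at h; omega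
    obtain ⟨i, hi⟩ := exists_descent ax hne
    have h1 := inv_refl_mul_neg ax l hi
    have hp : D.Pos ((D.wl (i :: l))⁻¹ (D.simp i)) := by
      rw [wl_cons, mul_inv_rev, Equiv.Perm.mul_apply, refl_inv ax, ax.refl_simp, ← wl_reverse ax,
        wl_opp ax, wl_reverse ax, ax.pos_opp]
      exact hi
    have hacts : D.Acts (D.nn i * D.nw (i :: l)) (D.wl l) := by
      have := (acts_nn ax i).mul (acts_nw ax (i :: l))
      rwa [wl_cons, refl_mul_refl_mul ax] at this
    obtain ⟨b, hb, c, hc, e⟩ :=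
      (mem_cell_iff ax (D.N.mul_mem (nn_mem_N i) (nw_mem_N (i :: l))) hacts).1 hg
    obtain ⟨y, hy, v, hv, t, ht, rfl⟩ := B_decomp ax i hb
    set g' : M := (D.nn i)⁻¹ * (v * t) * D.nn i * D.nw (i :: l) * c with hg'
    have hg'c : g' ∈ D.cell (D.wl (i :: l)) := by
      have := mul_mem_cell (mem_cell_of (nw_mem_N (i :: l)) (acts_nw ax (i :: l)))
        (nn_conj_rad ax (i := i) hv ht).2 hc
      simpa [hg', mul_assoc] using this
    have e' : g = y * D.nn i * g' := by rw [e, hg']; group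
    have hθg' : θ g' ∈ D.cell (D.wl (i :: l)) := by
      obtain ⟨b', hb', c', hc', e''⟩ := (mem_cell_iff ax (nw_mem_N (i :: l)) (acts_nw ax _)).1 hg'c
      rw [e'', map_mul, map_mul, hnw]
      exact mul_mem_cell (mem_cell_of (nw_mem_N _) (acts_nw ax _)) (hθB _ hb') (hθB _ hc')
    have hθe : y * D.nn i * g' = θ y * D.nn i * θ g' := by
      conv_lhs => rw [← e', ← hfix, e', map_mul, map_mul, hθn]
    have hyy := simp_factor_unique ax (i :: l) hp hy (hθX i y hy) hg'c hθg' hθe
    rw [← hyy] at hθe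
    rw [e']
    exact K.mul_mem (K.mul_mem (hKX i y hy hyy.symm) (hKn i))
      (ih (i :: l) (by rw [wl_cons]; omega) g' hg'c (mul_left_cancel hθe).symm)

end Cfsg.Agent.RootBN.Data
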