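import Cfsg.Agent.Lib.RootBN.Setup

/-!
# Bruhat normal form

Every element of the cell of `σ` is `b n u` with `u` in the group generated by the positive root subgroups
that `σ` sends to negative ones.
-/

set_option autoImplicit false

namespace Cfsg.Agent.RootBN.Data

variable {M : Type*} [Group M] {ι : Type*} {κ : Type*} {D : Data M ι κ}

/-- The group generated by the positive root subgroups that `σ` makes negative. -/
def Um (D : Data M ι κ) (σ : Equiv.Perm ι) : Subgroup M :=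
  ⨆ (r : ι) (_ : r ∈ {r | D.Pos r ∧ ¬ D.Pos (σ r)}), D.X r

theorem Um_le_U (σ : Equiv.Perm ι) : D.Um σ ≤ D.U := iSup₂_le fun _ hr => X_le_U hr.1

theorem X_le_Um {σ : Equiv.Perm ι} {r : ι} (h : D.Pos r) (h' : ¬ D.Pos (σ r)) : D.X r ≤ D.Um σ :=
  le_iSup₂ (f := fun r (_ : r ∈ {r | D.Pos r ∧ ¬ D.Pos (σ r)}) => D.X r) r ⟨h, h'⟩

variable (ax : D.Axioms)
include ax

theorem inv_mul_refl_neg [Finite ι] {i : κ} {σ : Equiv.Perm ι}
    (hopp : ∀ r, σ (D.opp r) = D.opp (σ r)) (hneg : ¬ D.Pos (σ (D.simp i))) :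
    D.inv (σ * D.refl i) + 1 = D.inv σ := by
  have hset : {r | D.Pos r ∧ ¬ D.Pos ((σ * D.refl i) r)} =
      D.refl i '' ({r | D.Pos r ∧ ¬ D.Pos (σ r)} \ {D.simp i}) := by
    ext r
    simp only [Set.mem_ofPred_eq, Set.mem_image, Set.mem_sdiff, Set.mem_singleton_iff, Equiv.Perm.mul_apply]
    constructor
    · rintro ⟨hr, hr'⟩
      have hne : r ≠ D.simp i := by
        rintro rfl
        rw [ax.refl_simp, hopp, ax.pos_opp, not_not] at hr'
        exact hneg hr'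
      refine ⟨D.refl i r, ⟨⟨ax.refl_pos i r hr hne, hr'⟩, fun h => ?_⟩, ax.refl_refl i r⟩
      have := congrArg (D.refl i) h
      rw [ax.refl_refl, ax.refl_simp] at this
      exact not_pos_opp_simp ax i (this ▸ hr)
    · rintro ⟨s, ⟨⟨hs, hs'⟩, hne⟩, rfl⟩
      exact ⟨ax.refl_pos i s hs hne, by rwa [ax.refl_refl]⟩
  rw [Data.inv, hset, Set.ncard_image_of_injective _ (D.refl i).injective]
  exact Set.ncard_sdiff_singleton_add_one (show D.simp i ∈ {r | D.Pos r ∧ ¬ D.Pos (σ r)} from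
    ⟨ax.pos_simp i, hneg⟩)

theorem exists_mul_Um [Finite ι] (l : List κ) {u : M} (hu : u ∈ D.U) :
    ∃ b ∈ D.U, ∃ u' ∈ D.Um (D.wl l), D.nw l * u = b * D.nw l * u' := by
  suffices key : ∀ k, ∀ l : List κ, D.inv (D.wl l) = k → ∀ u ∈ D.U,
      ∃ b ∈ D.U, ∃ u' ∈ D.Um (D.wl l), D.nw l * u = b * D.nw l * u' from key _ l rfl u hu
  clear hu u l
  intro k
  induction k with
  | zero =>
    intro l h u hu
    have hH : D.nw l ∈ D.H := by
      refine mem_H_of_pos_preserving ax (nw_mem_N l) (acts_nw ax l) fun r hr => ?_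
      rw [inv_eq_zero ax l h]
      simpa using hr
    refine ⟨D.nw l * u * (D.nw l)⁻¹, H_conj_U ax hH hu, 1, Subgroup.one_mem _, by group⟩
  | succ k ih =>
    intro l h u hu
    have hne : D.wl l ≠ 1 := fun he => by rw [he, inv_one] at h; omega
    obtain ⟨i, hi⟩ := exists_simp_neg ax l hne
    have hw : D.wl l = D.wl (l ++ [i]) * D.refl i := by
      rw [wl_append, wl_cons, wl_nil, mul_one, mul_assoc,
        show D.refl i * D.refl i = 1 from Equiv.ext fun r => ax.refl_refl i r, mul_one]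
    have hinv : D.inv (D.wl (l ++ [i])) = k := by
      have := inv_mul_refl_neg ax (σ := D.wl l) (wl_opp ax l) hi
      rw [wl_append, wl_cons, wl_nil, mul_one]
      omega
    obtain ⟨y, hy, v, hv, rfl⟩ := U_eq_mul ax i hu
    have hv' : D.nn i * (D.nn i * D.nn i)⁻¹ * (y * v * y⁻¹) * (D.nn i * (D.nn i * D.nn i)⁻¹)⁻¹ ∈ D.U := by
      refine Urad_le_U i ?_
      have h1 := H_conj_Urad ax (D.H.inv_mem (ax.nn_sq i)) (X_conj_Urad ax hy hv)
      have := nn_conj_Urad ax h1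
      simpa [mul_assoc] using this
    obtain ⟨b, hb, u', hu', e⟩ := ih (l ++ [i]) hinv _ hv'
    have hu'' : (D.nn i) * u' * (D.nn i)⁻¹ ∈ D.Um (D.wl l) := by
      refine (show D.Um (D.wl (l ++ [i])) ≤ (D.Um (D.wl l)).comap (MulAut.conj (D.nn i)).toMonoidHom from
        iSup₂_le fun r hr z hz => ?_) hu'
      obtain ⟨hr, hr'⟩ := hr
      rw [wl_append, wl_cons, wl_nil, mul_one, Equiv.Perm.mul_apply] at hr'
      have hne' : r ≠ D.simp i := by
        rintro rfl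
        rw [ax.refl_simp, wl_opp ax, ax.pos_opp, not_not] at hr'
        exact hi hr'
      exact X_le_Um (ax.refl_pos i r hr hne') hr' (ax.conj_X i r z hz)
    refine ⟨b, hb, D.nn i * u' * (D.nn i)⁻¹ * y,
      Subgroup.mul_mem _ hu'' (X_le_Um (ax.pos_simp i) hi hy), ?_⟩
    have e1 : D.nw (l ++ [i]) = D.nw l * D.nn i := by rw [nw_append, nw_cons, nw_nil, mul_one]
    rw [e1] at e
    calc D.nw l * (y * v) = D.nw l * D.nn i *
          (D.nn i * (D.nn i * D.nn i)⁻¹ * (y * v * y⁻¹) * (D.nn i * (D.nn i * D.nn i)⁻¹)⁻¹) *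
          (D.nn i)⁻¹ * y := by group
      _ = _ := by rw [e]; group

/-- Existence of the normal form. -/
theorem exists_normal_form [Finite ι] {g : M} (hg : g ∈ D.grp) :
    ∃ b ∈ D.B, ∃ l : List κ, ∃ u ∈ D.Um (D.wl l), g = b * D.nw l * u := by
  obtain ⟨l, hl⟩ := exists_cell ax hg
  obtain ⟨b, hb, c, hc, rfl⟩ := (mem_cell_iff ax (nw_mem_N l) (acts_nw ax l)).1 hl
  obtain ⟨u, hu, h, hh, rfl⟩ := (mem_B_iff ax).1 hc
  obtain ⟨b', hb', u', hu', e⟩ := exists_mul_Um ax l hu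
  refine ⟨b * b' * (D.nw l * h * (D.nw l)⁻¹), D.B.mul_mem (D.B.mul_mem hb (U_le_B hb')) (H_le_B (nw_H ax l hh)),
    l, h⁻¹ * u' * h, ?_, ?_⟩
  · have := H_conj_of_iSup ax (S := {r | D.Pos r ∧ ¬ D.Pos (D.wl l r)}) (D.H.inv_mem hh) hu'
    rwa [inv_inv] at this
  · calc b * D.nw l * (u * h) = b * (D.nw l * u) * h := by group
      _ = _ := by rw [e]; group

/-- The coset `n H` is determined by the cell. -/
theorem inv_mul_mem_H_of_eq [Finite ι] {n n' b b' u u' : M} (hn : n ∈ D.N) (hn' : n' ∈ D.N)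
    (hb : b ∈ D.B) (hb' : b' ∈ D.B) (hu : u ∈ D.B) (hu' : u' ∈ D.B) (e : b * n * u = b' * n' * u') :
    n⁻¹ * n' ∈ D.H := by
  obtain ⟨l, hl⟩ := exists_acts ax hn
  obtain ⟨l', hl'⟩ := exists_acts ax hn'
  have h1 : b * n * u ∈ D.cell (D.wl l) := mul_mem_cell (mem_cell_of hn hl) hb hu
  have h2 : b * n * u ∈ D.cell (D.wl l') := e ▸ mul_mem_cell (mem_cell_of hn' hl') hb' hu'
  rw [← cell_disjoint ax h1 h2] at hl'
  have := N_conj_H ax (D.N.inv_mem hn) (mul_inv_mem_H ax hn' hn hl' hl)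
  simpa [mul_assoc] using this

end Cfsg.Agent.RootBN.Data
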