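/-
Fusion in the torus of a group with root subgroups is controlled by the monomial group, for every subset at once.
-/
import Cfsg.Agent.Lib.RootBN.NormalForm

set_option autoImplicit false

namespace Cfsg.Agent.RootBN.Data

variable {M : Type*} [Group M] {ι : Type*} {κ : Type*} {D : Data M ι κ}
variable (ax : D.Axioms)
include ax

/-- In a `B` whose `U` and `H` have coprime orders, an element killed by `|U|` lies in `U`. -/
theorem mem_U_of_pow {x : M} (hcop : (Nat.card D.U).Coprime (Nat.card D.H)) (hx : x ∈ D.B)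
    (hp : x ^ Nat.card D.U = 1) : x ∈ D.U := by
  obtain ⟨u, hu, h, hh, rfl⟩ := (mem_B_iff ax).1 hx
  have key : ∀ k : ℕ, (u * h) ^ k * (h ^ k)⁻¹ ∈ D.U := by
    intro k
    induction k with
    | zero => simp
    | succ k ih =>
      have e : (u * h) ^ (k + 1) * (h ^ (k + 1))⁻¹ =
          (u * h) ^ k * (h ^ k)⁻¹ * (h ^ k * u * (h ^ k)⁻¹) := by
        rw [pow_succ, pow_succ]; group
      rw [e]
      exact D.U.mul_mem ih (H_conj_U ax (D.H.pow_mem hh k) hu)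
  have h1 := key (Nat.card D.U)
  rw [hp, one_mul, D.U.inv_mem_iff] at h1
  have h2 : h ^ Nat.card D.U = 1 := by
    have : D.U ⊓ D.H = ⊥ := disjoint_iff.1 (Subgroup.disjoint_of_coprime_natCard hcop)
    exact (Subgroup.eq_bot_iff_forall _).1 this _ ⟨h1, D.H.pow_mem hh _⟩
  have h3 : h ^ Nat.card D.H = 1 := by
    exact congrArg Subtype.val (pow_card_eq_one' (x := (⟨h, hh⟩ : D.H)))
  have h4 : h = 1 := by
    have := pow_gcd_eq_one.2 ⟨h2, h3⟩
    rwa [hcop, pow_one] at this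
  rwa [h4, mul_one]

/-- Conjugation by an element of the group agrees, on what it keeps in the torus, with conjugation by a monomial
element. -/
theorem exists_monomial_conj [Finite ι] (hcop : (Nat.card D.U).Coprime (Nat.card D.H)) {g : M}
    (hg : g ∈ D.grp) : ∃ n ∈ D.N, ∀ t ∈ D.H, g * t * g⁻¹ ∈ D.H → g * t * g⁻¹ = n * t * n⁻¹ := by
  obtain ⟨b, hb, l, c, hc', rfl⟩ := exists_normal_form ax hg
  have hc : c ∈ D.U := Um_le_U _ hc'
  obtain ⟨u, hu, h, hh, rfl⟩ := (mem_B_iff ax).1 hb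
  have hn : h * D.nw l ∈ D.N := D.N.mul_mem (H_le_N hh) (nw_mem_N l)
  refine ⟨h * D.nw l, hn, fun t ht htg => ?_⟩
  set n := h * D.nw l with hndef
  set t' := u * h * D.nw l * c * t * (u * h * D.nw l * c)⁻¹ with ht'
  have hu1 : u⁻¹ * (t' * u * t'⁻¹) ∈ D.U := D.U.mul_mem (D.U.inv_mem hu) (H_conj_U ax htg hu)
  have hc1 : t⁻¹ * c * t * c⁻¹ ∈ D.U := by
    have := H_conj_U ax (D.H.inv_mem ht) hc
    rw [inv_inv] at this
    exact D.U.mul_mem this (D.U.inv_mem hc)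
  have e : u⁻¹ * (t' * u * t'⁻¹) * (t' * n) = n * t * (t⁻¹ * c * t * c⁻¹) := by
    rw [hndef, ht']; group
  have hN1 : t' * n ∈ D.N := D.N.mul_mem (H_le_N htg) hn
  have hN2 : n * t ∈ D.N := D.N.mul_mem hn (H_le_N ht)
  have hH : (t' * n)⁻¹ * (n * t) ∈ D.H := by
    refine inv_mul_mem_H_of_eq ax hN1 hN2 (U_le_B hu1) D.B.one_mem D.B.one_mem (U_le_B hc1) ?_
    rw [mul_one, one_mul, e]
  set z := (t' * n)⁻¹ * (n * t) with hz
  have hx : (t' * n)⁻¹ * (u⁻¹ * (t' * u * t'⁻¹)) * (t' * n) = z * (t⁻¹ * c * t * c⁻¹) := by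
    rw [mul_assoc, e, hz]; group
  have hxU : z * (t⁻¹ * c * t * c⁻¹) ∈ D.U := by
    refine mem_U_of_pow ax hcop (D.B.mul_mem (H_le_B hH) (U_le_B hc1)) ?_
    rw [← hx, show (t' * n)⁻¹ * (u⁻¹ * (t' * u * t'⁻¹)) * (t' * n) =
        (t' * n)⁻¹ * (u⁻¹ * (t' * u * t'⁻¹)) * ((t' * n)⁻¹)⁻¹ by rw [inv_inv], conj_pow]
    rw [show (u⁻¹ * (t' * u * t'⁻¹)) ^ Nat.card D.U = 1 from
      congrArg Subtype.val (pow_card_eq_one' (x := (⟨_, hu1⟩ : D.U)))]
    group
  have hzU : z ∈ D.U := by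
    have := D.U.mul_mem hxU (D.U.inv_mem hc1)
    simpa [mul_assoc] using this
  have hz1 : z = 1 :=
    (Subgroup.eq_bot_iff_forall _).1 (disjoint_iff.1 (Subgroup.disjoint_of_coprime_natCard hcop)) _ ⟨hzU, hH⟩
  rw [hz, inv_mul_eq_one] at hz1
  calc t' = t' * n * n⁻¹ := by group
    _ = _ := by rw [hz1]

end Cfsg.Agent.RootBN.Data
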