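/-
Automisers in the torus of a group with root subgroups: bounded by the exponent of the Weyl group; orders of the
monomial group and the indices of torus and monomial group.
-/
import Cfsg.Agent.Lib.RootBN.TorusFusion
import Cfsg.Agent.Lib.RootBN.ToBNPair

set_option autoImplicit false

namespace Cfsg.Agent.RootBN.Data

variable {M : Type*} [Group M] {ι : Type*} {κ : Type*} {D : Data M ι κ}

/-- The action of a word by tables. -/
def tabAct (r : κ → ι → ι) (d : List κ) (o : ι) : ι := d.foldr r o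

/-- The exponent of the Weyl group from a list of words closed under the simple reflections. -/
theorem wl_pow_eq_one (r : κ → ι → ι) (hr : ∀ i o, D.refl i o = r i o) (reps : List (List κ))
    (hnil : [] ∈ reps) (hcl : ∀ i, ∀ d ∈ reps, ∃ d' ∈ reps, ∀ o, tabAct r (i :: d) o = tabAct r d' o) {e : ℕ}
    (hpow : ∀ d ∈ reps, ∀ o, (tabAct r d)^[e] o = o) (l : List κ) : D.wl l ^ e = 1 := by
  have hwl : ∀ d : List κ, ∀ o, D.wl d o = tabAct r d o := by
    intro d
    induction d with
    | nil => intro o; rfl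
    | cons i d ih => intro o; rw [wl_cons, Equiv.Perm.mul_apply, ih, hr]; rfl
  obtain ⟨d, hd, e'⟩ : ∃ d ∈ reps, ∀ o, tabAct r l o = tabAct r d o := by
    induction l with
    | nil => exact ⟨[], hnil, fun _ => rfl⟩
    | cons i l ih =>
      obtain ⟨d, hd, h⟩ := ih
      obtain ⟨d', hd', h'⟩ := hcl i d hd
      exact ⟨d', hd', fun o => (congrArg (r i) (h o)).trans (h' o)⟩
  refine Equiv.ext fun o => ?_
  rw [Equiv.Perm.coe_pow, show ((D.wl l : Equiv.Perm ι) : ι → ι) = tabAct r d from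
    funext fun x => (hwl l x).trans (e' x)]
  exact hpow d hd o

variable (ax : D.Axioms)
include ax

/-- What normalises a subgroup of the torus acts on it with order dividing the exponent of the Weyl group. -/
theorem pow_centralises [Finite ι] (hcop : (Nat.card D.U).Coprime (Nat.card D.H))
    (hcomm : ∀ a ∈ D.H, ∀ b ∈ D.H, a * b = b * a) {e : ℕ} (hW : ∀ l, D.wl l ^ e = 1) {g : D.grp}
    {P : Subgroup D.grp} (hP : P ≤ D.H.subgroupOf D.grp) (hg : ∀ z ∈ P, g * z * g⁻¹ ∈ P) :
    ∀ z ∈ P, g ^ e * z * (g ^ e)⁻¹ = z := by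
  obtain ⟨n, hn, hconj⟩ := exists_monomial_conj ax hcop g.2
  have hiter : ∀ j : ℕ, ∀ w ∈ P, g ^ j * w * (g ^ j)⁻¹ ∈ P ∧
      ((g ^ j * w * (g ^ j)⁻¹ : D.grp) : M) = n ^ j * w * (n ^ j)⁻¹ := by
    intro j
    induction j with
    | zero => intro w hw; simp [hw]
    | succ j ih =>
      intro w hw
      obtain ⟨h1, h2⟩ := ih w hw
      have h3 := hg _ h1
      have e1 : g ^ (j + 1) * w * (g ^ (j + 1))⁻¹ = g * (g ^ j * w * (g ^ j)⁻¹) * g⁻¹ := by
        rw [pow_succ']; group
      have e2 : n ^ (j + 1) * w * (n ^ (j + 1))⁻¹ = n * (n ^ j * w * (n ^ j)⁻¹) * n⁻¹ := by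
        rw [pow_succ']; group
      refine ⟨e1 ▸ h3, ?_⟩
      rw [e1, e2]
      rw [Subgroup.coe_mul, Subgroup.coe_mul, Subgroup.coe_inv]
      rw [← h2]
      exact hconj _ (hP h1) (hP h3)
  intro z hz
  obtain ⟨l, hl⟩ := exists_acts ax hn
  have hp : ∀ j : ℕ, D.Acts (n ^ j) (D.wl l ^ j) := by
    intro j
    induction j with
    | zero => simpa using acts_one
    | succ j ih => rw [pow_succ, pow_succ]; exact ih.mul hl
  have hH : n ^ e ∈ D.H := mem_H_of_pos_preserving ax (D.N.pow_mem hn _) (hp e) fun r hr => by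
    rw [hW]; exact hr
  refine Subtype.ext ((hiter e z hz).2.trans ?_)
  rw [hcomm _ hH (z : M) (hP hz), mul_inv_cancel_right]

/-- `|N| = |H| |W|`. -/
theorem card_N [Finite ι] : Nat.card D.N = Nat.card D.H * D.weyl.card := by
  classical
  have hex : ∀ n : D.N, ∃ σ : Equiv.Perm ι, σ ∈ D.weyl ∧ D.Acts (n : M) σ := fun n => by
    obtain ⟨l, hl⟩ := exists_acts ax n.2
    exact ⟨_, mem_weyl.2 ⟨l, rfl⟩, hl⟩
  choose σ hσ1 hσ2 using hex
  let f : D.N →* Equiv.Perm ι := MonoidHom.mk' σ fun a b =>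
    acts_unique ax (hσ2 (a * b)) ((hσ2 a).mul (hσ2 b))
  have hker : f.ker = D.H.subgroupOf D.N := by
    ext n
    refine ⟨fun h => mem_H_of_pos_preserving ax n.2 (hσ2 n) fun r hr => ?_, fun h => ?_⟩
    · have h' : σ n = 1 := h
      rw [h']; exact hr
    · exact acts_unique ax (hσ2 n) (acts_H ax (Subgroup.mem_subgroupOf.1 h))
  have hrange : (f.range : Set (Equiv.Perm ι)) = (D.weyl : Set (Equiv.Perm ι)) := by
    ext τ
    refine ⟨?_, fun hτ => ?_⟩
    · rintro ⟨n, rfl⟩; exact hσ1 n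
    · obtain ⟨l, rfl⟩ := mem_weyl.1 hτ
      exact ⟨⟨D.nw l, nw_mem_N l⟩, acts_unique ax (hσ2 _) (acts_nw ax l)⟩
  rw [← Subgroup.card_mul_index f.ker, Subgroup.index_ker, hker,
    Nat.card_congr (Subgroup.subgroupOfEquivOfLe H_le_N).toEquiv]
  congr 1
  rw [← Nat.card_eq_finsetCard]
  exact Nat.card_congr (Equiv.setCongr hrange)

/-- The indices of the torus and of the monomial group, from the order of the group. -/
theorem index_eq [Finite ι] [Finite M] {u s : ℕ} (hcard : Nat.card D.grp = u * Nat.card D.H * s) :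
    (D.H.subgroupOf D.grp).index = u * s ∧ D.weyl.card * (D.N.subgroupOf D.grp).index = u * s ∧
      (D.H.subgroupOf D.grp).relIndex (D.N.subgroupOf D.grp) = D.weyl.card := by
  have hH : Nat.card (D.H.subgroupOf D.grp) = Nat.card D.H :=
    Nat.card_congr (Subgroup.subgroupOfEquivOfLe ax.H_le).toEquiv
  have hN : Nat.card (D.N.subgroupOf D.grp) = Nat.card D.H * D.weyl.card := by
    rw [Nat.card_congr (Subgroup.subgroupOfEquivOfLe (N_le_grp ax)).toEquiv, card_N ax]
  have h1 := Subgroup.card_mul_index (D.H.subgroupOf D.grp)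
  have h2 := Subgroup.card_mul_index (D.N.subgroupOf D.grp)
  rw [hH, hcard] at h1
  rw [hN, hcard] at h2
  have hpos : 0 < Nat.card D.H := Nat.card_pos
  refine ⟨Nat.eq_of_mul_eq_mul_left hpos (h1.trans (by ring)),
    Nat.eq_of_mul_eq_mul_left hpos ((mul_assoc _ _ _).symm.trans (h2.trans (by ring))), ?_⟩
  have hle : D.H.subgroupOf D.grp ≤ D.N.subgroupOf D.grp := fun _ h => H_le_N h
  have h3 := Subgroup.card_mul_index ((D.H.subgroupOf D.grp).subgroupOf (D.N.subgroupOf D.grp))
  rw [Nat.card_congr (Subgroup.subgroupOfEquivOfLe hle).toEquiv, hH, hN] at h3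
  exact Nat.eq_of_mul_eq_mul_left hpos h3

end Cfsg.Agent.RootBN.Data
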