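/-
Automorphisms of a group with root subgroups that fix a pair of opposite unipotent subgroups permute the
fundamental root subgroups.
-/
import Cfsg.Agent.Lib.RootBN.ToBNPair

set_option autoImplicit false

namespace Cfsg.Agent.RootBN

variable {M : Type*} [Group M]

/-- The image of a subgroup under an automorphism of a subgroup `G`. -/
def mapG {G : Subgroup M} (φ : G ≃* G) (K : Subgroup M) : Subgroup M :=
  ((K.subgroupOf G).map φ.toMonoidHom).map G.subtype

section mapG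

variable {G : Subgroup M} (φ : G ≃* G) {K L : Subgroup M}

theorem mapG_le_G : mapG φ K ≤ G := Subgroup.map_subtype_le _

theorem mem_mapG {x : G} : (φ x : M) ∈ mapG φ K ↔ (x : M) ∈ K := by
  constructor
  · rintro ⟨y, ⟨z, hz, rfl⟩, e⟩
    obtain rfl : z = x := φ.injective (Subtype.ext e)
    exact hz
  · intro h
    exact ⟨φ x, ⟨x, h, rfl⟩, rfl⟩

theorem exists_of_mem_mapG {y : M} (h : y ∈ mapG φ K) : ∃ x : G, (x : M) ∈ K ∧ (φ x : M) = y := by
  obtain ⟨_, ⟨z, hz, rfl⟩, rfl⟩ := h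
  exact ⟨z, hz, rfl⟩

theorem mapG_mono (h : K ≤ L) : mapG φ K ≤ mapG φ L := fun y hy => by
  obtain ⟨x, hx, rfl⟩ := exists_of_mem_mapG φ hy
  exact (mem_mapG φ).2 (h hx)

theorem mapG_inf : mapG φ (K ⊓ L) = mapG φ K ⊓ mapG φ L := by
  refine le_antisymm (le_inf (mapG_mono φ inf_le_left) (mapG_mono φ inf_le_right)) fun y hy => ?_
  obtain ⟨x, hx, rfl⟩ := exists_of_mem_mapG φ hy.1
  exact (mem_mapG φ).2 ⟨hx, (mem_mapG φ).1 hy.2⟩

theorem mapG_bot : mapG φ (⊥ : Subgroup M) = ⊥ := by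
  refine eq_bot_iff.2 fun y hy => ?_
  obtain ⟨x, hx, rfl⟩ := exists_of_mem_mapG φ hy
  have h1 : x = 1 := Subtype.ext (Subgroup.mem_bot.1 hx)
  rw [h1, map_one]
  rfl

theorem mapG_symm_mapG (h : K ≤ G) : mapG φ.symm (mapG φ K) = K := by
  ext y
  constructor
  · intro hy
    obtain ⟨x, hx, rfl⟩ := exists_of_mem_mapG φ.symm hy
    rw [← φ.apply_symm_apply x, mem_mapG] at hx
    exact hx
  · intro hy
    have h1 : ((φ ⟨y, h hy⟩ : G) : M) ∈ mapG φ K := (mem_mapG φ).2 hy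
    have := (mem_mapG φ.symm).2 h1
    rwa [φ.symm_apply_apply] at this

theorem mapG_conj (g : G) :
    mapG φ ((K ⊓ G).map (MulAut.conj (g : M)).toMonoidHom) =
      (mapG φ K).map (MulAut.conj (φ g : M)).toMonoidHom := by
  ext y
  constructor
  · intro hy
    obtain ⟨x, ⟨k, hk, e⟩, rfl⟩ := exists_of_mem_mapG φ hy
    obtain rfl : x = g * ⟨k, hk.2⟩ * g⁻¹ := Subtype.ext e.symm
    exact ⟨φ ⟨k, hk.2⟩, (mem_mapG φ).2 hk.1, by simp⟩
  · rintro ⟨z, hz, rfl⟩
    obtain ⟨x, hx, rfl⟩ := exists_of_mem_mapG φ hz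
    have : ((φ (g * x * g⁻¹) : G) : M) ∈ mapG φ ((K ⊓ G).map (MulAut.conj (g : M)).toMonoidHom) :=
      (mem_mapG φ).2 ⟨x, ⟨hx, x.2⟩, rfl⟩
    simpa using this

end mapG

namespace Data

variable {ι : Type*} {κ : Type*} {D : Data M ι κ} (ax : D.Axioms)
include ax

/-- An element of the group normalising `U` lies in `B`. -/
theorem mem_B_of_normalizes {g : M} (hg : g ∈ D.grp) (h : ∀ u ∈ D.U, g * u * g⁻¹ ∈ D.U) : g ∈ D.B := by
  obtain ⟨l, hl⟩ := exists_cell ax hg
  obtain ⟨n, hn, hact, b, hb, c, hc, rfl⟩ := hl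
  have hBU : ∀ b ∈ D.B, ∀ u ∈ D.U, b * u * b⁻¹ ∈ D.U := by
    intro b hb u hu
    obtain ⟨v, hv, t, ht, rfl⟩ := (mem_B_iff ax).1 hb
    have := D.U.mul_mem (D.U.mul_mem hv (H_conj_U ax ht hu)) (D.U.inv_mem hv)
    simpa [mul_assoc] using this
  have hnU : ∀ u ∈ D.U, n * u * n⁻¹ ∈ D.U := by
    intro u hu
    have h1 := hBU _ (D.B.inv_mem hb) _ (h _ (hBU _ (D.B.inv_mem hc) _ hu))
    simpa [mul_assoc] using h1
  refine D.B.mul_mem (D.B.mul_mem hb (H_le_B (mem_H_of_pos_preserving ax hn hact fun r hr => ?_))) hc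
  by_contra hneg
  apply ax.X_ne_bot r
  rw [Subgroup.eq_bot_iff_forall]
  intro y hy
  have h1 : n * y * n⁻¹ ∈ D.X (D.wl l r) ⊓ D.B :=
    ⟨(hact r y).2 hy, U_le_B (hnU y (X_le_U hr hy))⟩
  rw [ax.neg_not_mem _ hneg, Subgroup.mem_bot, conj_eq_one_iff] at h1
  exact h1

theorem B_conj_U {b : M} (hb : b ∈ D.B) : D.U.map (MulAut.conj b).toMonoidHom = D.U := by
  obtain ⟨v, hv, t, ht, rfl⟩ := (mem_B_iff ax).1 hb
  refine le_antisymm ?_ fun u hu => ?_
  · rintro y ⟨u, hu, rfl⟩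
    have := D.U.mul_mem (D.U.mul_mem hv (H_conj_U ax ht hu)) (D.U.inv_mem hv)
    simpa [mul_assoc] using this
  · refine ⟨t⁻¹ * (v⁻¹ * u * v) * t⁻¹⁻¹, H_conj_U ax (D.H.inv_mem ht)
      (D.U.mul_mem (D.U.mul_mem (D.U.inv_mem hv) hu) hv), ?_⟩
    simp [mul_assoc]

variable {l₀ : List κ} (hl₀ : ∀ r, D.Pos (D.wl l₀ r) ↔ ¬ D.Pos r)
include hl₀

omit ax hl₀ in
/-- The opposite of `U`, as the conjugate by the longest element. -/
def Uop (D : Data M ι κ) (l₀ : List κ) : Subgroup M := D.U.map (MulAut.conj (D.nw l₀)).toMonoidHom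

theorem X_le_Uop {r : ι} (hr : ¬ D.Pos r) : D.X r ≤ Uop D l₀ := by
  intro y hy
  refine ⟨(D.nw l₀)⁻¹ * y * D.nw l₀, X_le_U (r := (D.wl l₀)⁻¹ r) ?_ ?_, by simp [mul_assoc]⟩
  · by_contra h
    have := (hl₀ _).2 h
    rw [show D.wl l₀ ((D.wl l₀)⁻¹ r) = r from Equiv.apply_symm_apply _ _] at this
    exact hr this
  · apply (acts_nw ax l₀ _ _).1
    rw [show D.wl l₀ ((D.wl l₀)⁻¹ r) = r from Equiv.apply_symm_apply _ _]
    simpa [mul_assoc] using hy

theorem conj_Uop : (Uop D l₀).map (MulAut.conj (D.nw l₀)).toMonoidHom = D.U := by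
  have hH : D.nw l₀ * D.nw l₀ ∈ D.H := by
    refine mem_H_of_pos_preserving ax (D.N.mul_mem (nw_mem_N l₀) (nw_mem_N l₀))
      ((acts_nw ax l₀).mul (acts_nw ax l₀)) fun r hr => ?_
    rw [Equiv.Perm.mul_apply, hl₀]
    exact fun h => (hl₀ r).1 h hr
  rw [Uop, Subgroup.map_map]
  convert B_conj_U ax (H_le_B hH) using 2
  ext y
  simp [mul_assoc]

/-- The longest element carries the opposite of a fundamental root to a fundamental root. -/
theorem exists_simp_of_longest [Finite ι] (j : κ) : ∃ i, D.wl l₀ (D.opp (D.simp j)) = D.simp i := by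
  set w := D.wl (l₀ ++ j :: l₀.reverse) with hw
  have hwe : ∀ r, w r = D.wl l₀ (D.refl j ((D.wl l₀)⁻¹ r)) := fun r => by
    simp [hw, wl_append, wl_reverse ax]
  set r₀ := D.wl l₀ (D.opp (D.simp j)) with hr₀
  have hinv : D.inv w = 1 := by
    rw [Data.inv, Set.ncard_eq_one]
    refine ⟨r₀, Set.eq_singleton_iff_unique_mem.2 ⟨⟨?_, ?_⟩, ?_⟩⟩
    · exact (hl₀ _).2 (not_pos_opp_simp ax j)
    · rw [hwe, hr₀, show (D.wl l₀)⁻¹ (D.wl l₀ (D.opp (D.simp j))) = D.opp (D.simp j) from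
        Equiv.symm_apply_apply _ _, refl_opp_simp ax, hl₀, not_not]
      exact ax.pos_simp j
    · rintro r ⟨h1, h2⟩
      rw [hwe, hl₀, not_not] at h2
      set s := (D.wl l₀)⁻¹ r with hs
      have hsr : D.wl l₀ s = r := Equiv.apply_symm_apply _ _
      have hneg : ¬ D.Pos s := fun h => (hl₀ s).1 (hsr.symm ▸ h1) h
      have h3 : s = D.opp (D.simp j) := by
        by_contra hne
        have hp' : D.Pos (D.opp s) := (ax.pos_opp _).2 hneg
        have := ax.refl_pos j _ hp' (fun h => hne (by rw [← h, ax.opp_opp]))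
        rw [ax.refl_opp, ax.pos_opp] at this
        exact this h2
      rw [← hsr, h3, hr₀]
  have hne : w ≠ 1 := fun h => by rw [h, inv_one] at hinv; omega
  obtain ⟨i, hi⟩ := exists_descent ax hne
  have h1 := inv_refl_mul_neg ax (l₀ ++ j :: l₀.reverse) hi
  have h0 : D.inv (D.wl (i :: (l₀ ++ j :: l₀.reverse))) = 0 := by
    rw [wl_cons]; rw [hw] at hinv; omega
  have hwi : w = D.refl i := by
    have := inv_eq_zero ax _ h0
    rw [wl_cons] at this
    have h2 := congrArg (fun σ => D.refl i * σ) this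
    simp only [refl_mul_refl_mul ax, mul_one] at h2
    exact h2
  refine ⟨i, ?_⟩
  by_contra hne'
  have h5 := ax.refl_pos i r₀ ((hl₀ _).2 (not_pos_opp_simp ax j)) hne'
  rw [← hwi, hwe, hr₀, show (D.wl l₀)⁻¹ (D.wl l₀ (D.opp (D.simp j))) = D.opp (D.simp j) from
    Equiv.symm_apply_apply _ _, refl_opp_simp ax, hl₀] at h5
  exact h5 (ax.pos_simp j)

/-- A conjugate of `U` meeting `U` trivially is conjugate to `Uop` inside `U`. -/
theorem exists_conj_eq_Uop {g : M} (hg : g ∈ D.grp)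
    (h : D.U ⊓ D.U.map (MulAut.conj g).toMonoidHom = ⊥) :
    ∃ u ∈ D.U, D.U.map (MulAut.conj g).toMonoidHom = (Uop D l₀).map (MulAut.conj u).toMonoidHom := by
  obtain ⟨l, hl⟩ := exists_cell ax hg
  obtain ⟨n, hn, hact, b, hb, c, hc, rfl⟩ := hl
  have e : D.U.map (MulAut.conj (b * n * c)).toMonoidHom =
      (D.U.map (MulAut.conj n).toMonoidHom).map (MulAut.conj b).toMonoidHom := by
    conv_rhs => rw [← B_conj_U ax hc, Subgroup.map_map, Subgroup.map_map]
    congr 1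
    ext y
    simp [mul_assoc]
  have hflip : ∀ r, D.Pos r → ¬ D.Pos (D.wl l r) := by
    intro r hr hpos
    apply ax.X_ne_bot r
    rw [Subgroup.eq_bot_iff_forall]
    intro y hy
    have h1 : n * y * n⁻¹ ∈ D.U := X_le_U hpos ((hact r y).2 hy)
    have h2 : b * (n * y * n⁻¹) * b⁻¹ ∈ (⊥ : Subgroup M) := by
      rw [← h]
      refine ⟨(B_conj_U ax hb).le ⟨_, h1, by simp⟩, ?_⟩
      rw [e]
      exact ⟨_, ⟨y, X_le_U hr hy, rfl⟩, by simp⟩
    rw [Subgroup.mem_bot, conj_eq_one_iff, conj_eq_one_iff] at h2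
    exact h2
  have hH : (D.nw l₀)⁻¹ * n ∈ D.H := by
    refine mem_H_of_pos_preserving ax (D.N.mul_mem (D.N.inv_mem (nw_mem_N l₀)) hn)
      ((acts_nw ax l₀).inv.mul hact) fun r hr => ?_
    rw [Equiv.Perm.mul_apply]
    by_contra h'
    have := (hl₀ _).2 h'
    rw [show D.wl l₀ ((D.wl l₀)⁻¹ (D.wl l r)) = D.wl l r from Equiv.apply_symm_apply _ _] at this
    exact hflip r hr this
  obtain ⟨u, hu, t, ht, rfl⟩ := (mem_B_iff ax).1 hb
  refine ⟨u, hu, ?_⟩
  rw [e]
  have e1 : D.U.map (MulAut.conj n).toMonoidHom = Uop D l₀ := by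
    rw [Uop]
    conv_rhs => rw [← B_conj_U ax (H_le_B hH), Subgroup.map_map]
    congr 1
    ext y
    simp [mul_assoc]
  have ht' : (D.nw l₀)⁻¹ * t * D.nw l₀ ∈ D.B := by
    have := N_conj_H ax (D.N.inv_mem (nw_mem_N l₀)) ht
    rw [inv_inv] at this
    exact H_le_B this
  have e2 : (Uop D l₀).map (MulAut.conj t).toMonoidHom = Uop D l₀ := by
    rw [Uop, Subgroup.map_map]
    conv_rhs => rw [← B_conj_U ax ht', Subgroup.map_map]
    congr 1
    ext y
    simp [mul_assoc]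
  rw [e1]
  conv_rhs => rw [← e2, Subgroup.map_map]
  congr 1
  ext y
  simp [mul_assoc]

omit hl₀

omit ax in
/-- The minimal overgroup of `B` of a node. -/
def minPar (D : Data M ι κ) (i : κ) : Subgroup M := D.B ⊔ Subgroup.closure {D.nn i}

omit ax in
theorem B_le_minPar (i : κ) : D.B ≤ minPar D i := le_sup_left

omit ax in
theorem nn_mem_minPar (i : κ) : D.nn i ∈ minPar D i :=
  Subgroup.mem_sup_right (Subgroup.subset_closure rfl)

theorem minPar_le_grp (i : κ) : minPar D i ≤ D.grp :=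
  sup_le (B_le_grp ax) ((Subgroup.closure_le _).2 (by rintro _ rfl; exact ax.nn_mem i))

theorem mem_minPar {i : κ} {g : M} (hg : g ∈ minPar D i) : g ∈ D.cell 1 ∨ g ∈ D.cell (D.refl i) := by
  have hss : D.refl i * D.refl i = 1 := by simpa using refl_mul_refl_mul ax i 1
  have hn : ∀ z : M, z ∈ D.cell 1 ∨ z ∈ D.cell (D.refl i) →
      D.nn i * z ∈ D.cell 1 ∨ D.nn i * z ∈ D.cell (D.refl i) := by
    rintro z (h | h)
    · rcases nn_mul_cell ax (i := i) h with h' | h'
      · exact Or.inr (by simpa using h')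
      · exact Or.inl h'
    · rcases nn_mul_cell ax (i := i) h with h' | h'
      · exact Or.inl (hss ▸ h')
      · exact Or.inr h'
  have hb : ∀ b ∈ D.B, ∀ z : M, z ∈ D.cell 1 ∨ z ∈ D.cell (D.refl i) →
      b * z ∈ D.cell 1 ∨ b * z ∈ D.cell (D.refl i) := by
    rintro b hb z (h | h)
    · exact Or.inl (by simpa using mul_mem_cell h hb D.B.one_mem)
    · exact Or.inr (by simpa using mul_mem_cell h hb D.B.one_mem)
  rw [minPar, ← Subgroup.closure_eq D.B, ← Subgroup.closure_union] at hg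
  induction hg using Subgroup.closure_induction_left with
  | one => exact Or.inl ((mem_cell_one ax).2 D.B.one_mem)
  | mul_left x hx z _ ih =>
    rcases hx with hx | hx
    · exact hb x hx z ih
    · rw [Set.mem_singleton_iff.1 hx]; exact hn z ih
  | inv_mul_cancel x hx z _ ih =>
    rcases hx with hx | hx
    · exact hb _ (D.B.inv_mem hx) z ih
    · rw [Set.mem_singleton_iff.1 hx,
        show (D.nn i)⁻¹ * z = (D.nn i * D.nn i)⁻¹ * (D.nn i * z) by group]
      exact hb _ (D.B.inv_mem (H_le_B (ax.nn_sq i))) _ (hn z ih)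

theorem minPar_injective [Finite ι] {i j : κ} (h : minPar D i ≤ minPar D j) : i = j := by
  have hi : D.nn i ∈ D.cell (D.wl [i]) := by
    simpa using mem_cell_of (nn_mem_N i) (acts_nn ax i)
  rcases mem_minPar ax (h (nn_mem_minPar i)) with h' | h'
  · exact absurd ((mem_cell_one ax).1 h') (nn_not_mem_B ax i)
  · have := cell_disjoint ax (l := [i]) (l' := [j]) hi (by simpa using h')
    exact refl_injective ax (by simpa using this)

/-- An overgroup of `B` other than `B` contains the subgroup of some node. -/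
theorem exists_minPar_le {K : Subgroup M} (hBK : D.B ≤ K) (hK : K ≤ D.grp) (hne : ¬ K ≤ D.B) :
    ∃ i, minPar D i ≤ K := by
  obtain ⟨g, hg, hgB⟩ := Set.not_subset.1 hne
  obtain ⟨l, hl⟩ := exists_cell ax (hK hg)
  obtain ⟨b, hb, c, hc, e⟩ := (mem_cell_iff ax (nw_mem_N l) (acts_nw ax l)).1 hl
  have hn : D.nw l ∈ K := by
    have := K.mul_mem (K.mul_mem (K.inv_mem (hBK hb)) hg) (K.inv_mem (hBK hc))
    rw [e] at this
    simpa [mul_assoc] using this
  have hne1 : D.wl l ≠ 1 := fun h => hgB (by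
    have := h ▸ hl
    exact (mem_cell_one ax).1 this)
  obtain ⟨i, hi⟩ := exists_descent ax hne1
  refine ⟨i, sup_le hBK ((Subgroup.closure_le _).2 ?_)⟩
  rintro _ rfl
  obtain ⟨y0, hy0⟩ := Subgroup.ne_bot_iff_exists_ne_one.1 (ax.X_ne_bot (D.opp (D.simp i)))
  obtain ⟨a, ha, h, hh, b', hb', e'⟩ := ax.rank_one i (y0 : M) y0.2 (fun h => hy0 (Subtype.ext h))
  have hy : (y0 : M) ∈ K := by
    set s := (D.wl l)⁻¹ (D.opp (D.simp i)) with hs
    have hspos : D.Pos s := by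
      rw [hs, inv_apply_opp ax (nw_mem_N l) (acts_nw ax l), ax.pos_opp]
      exact hi
    have h1 : (D.nw l)⁻¹ * y0 * D.nw l ∈ D.X s := by
      apply (acts_nw ax l _ _).1
      rw [hs, show D.wl l ((D.wl l)⁻¹ (D.opp (D.simp i))) = D.opp (D.simp i) from Equiv.apply_symm_apply _ _]
      simp [mul_assoc]
    have := K.mul_mem (K.mul_mem hn (hBK (U_le_B (X_le_U hspos h1)))) (K.inv_mem hn)
    simpa [mul_assoc] using this
  rw [e'] at hy
  have := K.mul_mem (K.mul_mem (K.inv_mem (hBK (D.B.mul_mem (X_simp_le_B ax i ha) (H_le_B hh)))) hy)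
    (K.inv_mem (hBK (X_simp_le_B ax i hb')))
  simpa [mul_assoc] using this

variable [Finite ι] [Finite M] {p : ℕ} {f : κ → ℕ} (hp : p.Prime) (hq : ∀ i, Nat.card (D.X (D.simp i)) = p ^ f i)
  (hUp : IsPGroup p D.U)
include hp hq hUp hl₀

/-- A unipotent subgroup opposite to `B` meets a minimal overgroup of `B` in a root subgroup. -/
theorem Uop_inf_minPar (hVB : D.B ⊓ Uop D l₀ = ⊥) (i : κ) :
    Uop D l₀ ⊓ minPar D i = D.X (D.opp (D.simp i)) := by
  classical
  set K := Uop D l₀ ⊓ minPar D i with hK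
  have hXK : D.X (D.opp (D.simp i)) ≤ K := by
    refine le_inf (X_le_Uop ax hl₀ (not_pos_opp_simp ax i)) fun y hy => ?_
    have h1 : (D.nn i)⁻¹ * y * D.nn i ∈ D.X (D.simp i) := by
      apply (acts_nn ax i _ _).1
      rw [ax.refl_simp]
      simpa [mul_assoc] using hy
    have := (minPar D i).mul_mem ((minPar D i).mul_mem (nn_mem_minPar i)
      (B_le_minPar i (X_simp_le_B ax i h1))) ((minPar D i).inv_mem (nn_mem_minPar i))
    simpa [mul_assoc] using this
  have hKp : IsPGroup p K :=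
    (hUp.map (MulAut.conj (D.nw l₀)).toMonoidHom).to_le inf_le_left
  have hopp : Nat.card (D.X (D.opp (D.simp i))) = p ^ f i := by
    rw [← hq i]
    refine Nat.card_congr ⟨fun y => ⟨(D.nn i)⁻¹ * y * D.nn i, ?_⟩, fun y => ⟨D.nn i * y * (D.nn i)⁻¹, ?_⟩,
      fun y => ?_, fun y => ?_⟩
    · apply (acts_nn ax i _ _).1
      rw [ax.refl_simp]
      simp [mul_assoc]
    · have := ax.conj_X i _ y y.2
      rwa [ax.refl_simp] at this
    · exact Subtype.ext (by simp [mul_assoc])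
    · exact Subtype.ext (by simp [mul_assoc])
  -- at most `q + 1` elements
  have hle : Nat.card K ≤ 1 + p ^ f i := by
    let e : K → ↑(D.cosets 1 ∪ D.cosets (D.refl i)) := fun y => ⟨QuotientGroup.mk (y : M), by
      rcases mem_minPar ax y.2.2 with h | h
      · exact Or.inl (mem_cosets.2 h)
      · exact Or.inr (mem_cosets.2 h)⟩
    have hinj : Function.Injective e := fun y z h => by
      have h' := QuotientGroup.eq.1 (congrArg Subtype.val h : (QuotientGroup.mk (y : M) : M ⧸ D.B) = _)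
      have : (y : M)⁻¹ * z ∈ D.B ⊓ Uop D l₀ :=
        ⟨h', (Uop D l₀).mul_mem ((Uop D l₀).inv_mem y.2.1) z.2.1⟩
      rw [hVB, Subgroup.mem_bot, inv_mul_eq_one] at this
      exact Subtype.ext this
    refine (Nat.card_le_card_of_injective e hinj).trans ?_
    rw [Nat.card_coe_set_eq]
    refine (Set.ncard_union_le _ _).trans (le_of_eq ?_)
    rw [← Nat.card_coe_set_eq, ← Nat.card_coe_set_eq, card_cosets_one ax,
      show D.refl i = D.refl i * D.wl [] by simp, card_cosets_step ax [] (by simpa using ax.pos_simp i), wl_nil,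
      card_cosets_one ax, mul_one, hq i]
  have := Fact.mk hp
  obtain ⟨k, hk⟩ := IsPGroup.iff_card.1 hKp
  refine (Subgroup.eq_of_le_of_card_ge hXK ?_).symm
  rw [hopp, hk]
  apply Nat.pow_le_pow_right hp.pos
  by_contra hkf
  have h1 : p * p ^ f i ≤ Nat.card K := by
    rw [hk, ← pow_succ']
    exact Nat.pow_le_pow_right hp.pos (by omega)
  have h2 : 2 * p ^ f i ≤ p * p ^ f i := Nat.mul_le_mul_right _ hp.two_le
  have h3 : 1 ≤ p ^ f i := Nat.one_le_pow _ _ hp.pos
  have h4 : p ^ f i = 1 := by omega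
  have := Nat.card_le_card_of_injective (α := D.X (D.simp i)) (β := Unit) (fun _ => ()) ?_
  · exact absurd this (by
      obtain ⟨y, hy⟩ := Subgroup.ne_bot_iff_exists_ne_one.1 (ax.X_ne_bot (D.simp i))
      have : 1 < Nat.card (D.X (D.simp i)) := Finite.one_lt_card_iff_nontrivial.2 ⟨⟨y, 1, hy⟩⟩
      rw [hq i, h4] at this
      omega)
  · have h5 := hq i
    rw [h4, Nat.card_eq_one_iff_unique] at h5
    intro a b _
    exact h5.1.elim a b

/-- Automorphisms fixing `U` and its opposite permute the fundamental root subgroups. -/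
theorem exists_node_perm [Finite κ] (hVB : D.B ⊓ Uop D l₀ = ⊥) {G : Subgroup M} (hgrp : D.grp = G)
    (φ : G ≃* G) (hU : mapG φ D.U = D.U) (hV : mapG φ (Uop D l₀) = Uop D l₀) :
    ∃ ρ σ : Equiv.Perm κ, (∀ i, mapG φ (D.X (D.simp i)) = D.X (D.simp (ρ i))) ∧
      ∀ i, mapG φ (D.X (D.opp (D.simp i))) = D.X (D.opp (D.simp (σ i))) := by
  subst hgrp
  have hB : ∀ ψ : D.grp ≃* D.grp, mapG ψ D.U = D.U → D.B ≤ mapG ψ D.B := by
    intro ψ hψ y hy
    obtain ⟨x, rfl⟩ : ∃ x, (ψ x : M) = y := ⟨ψ.symm ⟨y, B_le_grp ax hy⟩, by simp⟩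
    refine (mem_mapG ψ).2 (mem_B_of_normalizes ax x.2 fun u hu => ?_)
    have hug : u ∈ D.grp := B_le_grp ax (U_le_B hu)
    have h1 : ((ψ ⟨u, hug⟩ : D.grp) : M) ∈ D.U := hψ.le ((mem_mapG ψ).2 hu)
    have h2 : ((ψ (x * ⟨u, hug⟩ * x⁻¹) : D.grp) : M) ∈ D.U := by
      simp only [map_mul, map_inv, Subgroup.coe_mul, Subgroup.coe_inv]
      exact (B_conj_U ax hy).le ⟨_, h1, by simp⟩
    rw [← hψ, mem_mapG] at h2
    simpa using h2
  have hU' : mapG φ.symm D.U = D.U := by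
    conv_lhs => rw [← hU]
    exact mapG_symm_mapG φ ((U_le_B).trans (B_le_grp ax))
  have hBeq : ∀ ψ : D.grp ≃* D.grp, mapG ψ D.U = D.U → mapG ψ.symm D.U = D.U → mapG ψ D.B = D.B := by
    intro ψ h1 h2
    refine le_antisymm ?_ (hB ψ h1)
    have := mapG_mono ψ (hB ψ.symm h2)
    rwa [show mapG ψ (mapG ψ.symm D.B) = D.B from mapG_symm_mapG ψ.symm (B_le_grp ax)] at this
  have hpar : ∀ ψ : D.grp ≃* D.grp, mapG ψ D.U = D.U → mapG ψ.symm D.U = D.U →
      ∀ i, ∃ j, minPar D j ≤ mapG ψ (minPar D i) := by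
    intro ψ h1 h2 i
    refine exists_minPar_le ax ?_ (mapG_le_G ψ) fun hle => ?_
    · rw [← hBeq ψ h1 h2]; exact mapG_mono ψ (B_le_minPar i)
    · rw [← hBeq ψ h1 h2] at hle
      have := mapG_mono ψ.symm hle
      rw [mapG_symm_mapG ψ (minPar_le_grp ax i), mapG_symm_mapG ψ (B_le_grp ax)] at this
      exact nn_not_mem_B ax i (this (nn_mem_minPar i))
  have hpar' : ∀ i, ∃ j, mapG φ (minPar D i) = minPar D j := by
    intro i
    obtain ⟨j, hj⟩ := hpar φ hU hU' i
    obtain ⟨k, hk⟩ := hpar φ.symm hU' hU j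
    have h1 := hk.trans (mapG_mono φ.symm hj)
    rw [mapG_symm_mapG φ (minPar_le_grp ax i)] at h1
    obtain rfl := minPar_injective ax h1
    refine ⟨j, le_antisymm ?_ hj⟩
    have h2 := mapG_mono φ hk
    rwa [show mapG φ (mapG φ.symm (minPar D j)) = minPar D j from
      mapG_symm_mapG φ.symm (minPar_le_grp ax j)] at h2
  choose σ hσ using hpar'
  have hσinj : Function.Injective σ := by
    intro a b hab
    refine minPar_injective ax (le_of_eq ?_)
    have := congrArg (mapG φ.symm) ((hσ a).trans ((congrArg (minPar D) hab).trans (hσ b).symm))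
    rwa [mapG_symm_mapG φ (minPar_le_grp ax a), mapG_symm_mapG φ (minPar_le_grp ax b)] at this
  have hneg : ∀ i, mapG φ (D.X (D.opp (D.simp i))) = D.X (D.opp (D.simp (σ i))) := by
    intro i
    rw [← Uop_inf_minPar ax hl₀ hp hq hUp hVB i, mapG_inf, hV, hσ i,
      Uop_inf_minPar ax hl₀ hp hq hUp hVB]
  -- transport by the longest element
  set n : D.grp := ⟨D.nw l₀, N_le_grp ax (nw_mem_N l₀)⟩ with hndef
  have hsimp := exists_simp_of_longest ax hl₀
  choose τ hτ using hsimp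
  have hτinj : Function.Injective τ := fun a b hab => ax.simp_inj <| by
    have := (D.wl l₀).injective ((hτ a).trans ((congrArg D.simp hab).trans (hτ b).symm))
    simpa [ax.opp_opp] using congrArg D.opp this
  have hX : ∀ (m : M) (r : ι) (s : Equiv.Perm ι), D.Acts m s →
      (D.X r).map (MulAut.conj m).toMonoidHom = D.X (s r) := by
    intro m r s hs
    ext y
    constructor
    · rintro ⟨x, hx, rfl⟩; exact (hs r x).2 hx
    · intro hy
      refine ⟨m⁻¹ * y * m, (hs r _).1 (by simpa [mul_assoc] using hy), by simp [mul_assoc]⟩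
  -- the image of `n` again interchanges `U` and its opposite
  have hnimg : (D.nw l₀)⁻¹ * (φ n : M) ∈ D.B ∧ D.U.map (MulAut.conj (φ n : M)).toMonoidHom = Uop D l₀ := by
    have h1 : mapG φ (Uop D l₀) = D.U.map (MulAut.conj (φ n : M)).toMonoidHom := by
      conv_rhs => rw [← hU]
      rw [← mapG_conj φ n, inf_eq_left.2 (U_le_B.trans (B_le_grp ax))]
      rfl
    rw [hV] at h1
    refine ⟨mem_B_of_normalizes ax (D.grp.mul_mem (D.grp.inv_mem n.2) (φ n).2) fun u hu => ?_, h1.symm⟩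
    obtain ⟨v, hv, e⟩ := h1.symm.le ⟨u, hu, rfl⟩
    simp only [MulEquiv.coe_toMonoidHom, MulAut.conj_apply] at e
    have : (D.nw l₀)⁻¹ * (φ n : M) * u * ((D.nw l₀)⁻¹ * (φ n : M))⁻¹ = v := by
      rw [show (D.nw l₀)⁻¹ * (φ n : M) * u * ((D.nw l₀)⁻¹ * (φ n : M))⁻¹ =
        (D.nw l₀)⁻¹ * ((φ n : M) * u * (φ n : M)⁻¹) * D.nw l₀ by group, ← e]
      group
    rwa [this]
  have hUQ : ∀ j, D.U ⊓ (minPar D j).map (MulAut.conj (n : M)).toMonoidHom = D.X (D.simp (τ j)) := by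
    intro j
    rw [show (n : M) = D.nw l₀ from rfl]
    conv_lhs => rw [← conj_Uop ax hl₀]
    rw [← Subgroup.map_inf _ _ _ (MulAut.conj (D.nw l₀)).injective, Uop_inf_minPar ax hl₀ hp hq hUp hVB,
      hX _ _ _ (acts_nw ax l₀), hτ]
  have hQ : ∀ j, mapG φ ((minPar D j).map (MulAut.conj (n : M)).toMonoidHom) =
      (minPar D (σ j)).map (MulAut.conj (n : M)).toMonoidHom := by
    intro j
    conv_lhs => rw [← inf_eq_left.2 (minPar_le_grp ax j), mapG_conj φ n, hσ j]
    set b := (n : M)⁻¹ * (φ n : M) with hb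
    have hbB : b ∈ minPar D (σ j) := B_le_minPar _ hnimg.1
    rw [show (φ n : M) = (n : M) * b by rw [hb, mul_inv_cancel_left]]
    ext y
    constructor
    · rintro ⟨x, hx, rfl⟩
      exact ⟨b * x * b⁻¹, (minPar D (σ j)).mul_mem ((minPar D (σ j)).mul_mem hbB hx)
        ((minPar D (σ j)).inv_mem hbB), by simp [mul_assoc]⟩
    · rintro ⟨x, hx, rfl⟩
      exact ⟨b⁻¹ * x * b, (minPar D (σ j)).mul_mem ((minPar D (σ j)).mul_mem ((minPar D (σ j)).inv_mem hbB) hx)
        hbB, by simp [mul_assoc]⟩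
  set σe : Equiv.Perm κ := Equiv.ofBijective σ (Finite.injective_iff_bijective.1 hσinj) with hσe
  set τe : Equiv.Perm κ := Equiv.ofBijective τ (Finite.injective_iff_bijective.1 hτinj) with hτe
  refine ⟨τe * σe * τe⁻¹, σe, fun i => ?_, hneg⟩
  obtain ⟨j, rfl⟩ := τe.surjective i
  simp only [Equiv.Perm.mul_apply, show τe⁻¹ (τe j) = j from τe.symm_apply_apply j]
  show mapG φ (D.X (D.simp (τ j))) = D.X (D.simp (τ (σ j)))
  rw [← hUQ j, mapG_inf, hU, hQ j, hUQ]

end Data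

end Cfsg.Agent.RootBN
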