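import Cfsg.Agent.Lib.RootBN.Setup

/-!
An element conjugating a nontrivial element of every simple root subgroup into `B` lies in `B`.
-/
set_option autoImplicit false

namespace Cfsg.Agent.RootBN.Data

variable {M : Type*} [Group M] {ι : Type*} {κ : Type*} {D : Data M ι κ}

variable (ax : D.Axioms)
include ax

/-- A nontrivial element of `X_i` stays outside `Urad i` modulo conjugation by `B`. -/
theorem B_conj_simp {i : κ} {c z : M} (hc : c ∈ D.B) (hz : z ∈ D.X (D.simp i)) (hz1 : z ≠ 1) :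
    ∃ z' ∈ D.X (D.simp i), z' ≠ 1 ∧ ∃ v ∈ D.Urad i, c * z * c⁻¹ = z' * v := by
  obtain ⟨y, hy, u, hu, h, hh, rfl⟩ := B_decomp ax i hc
  set z₁ := h * z * h⁻¹ with hz₁
  have hz₁X : z₁ ∈ D.X (D.simp i) := ax.H_conj _ h hh z hz
  have hz₁1 : z₁ ≠ 1 := fun e => hz1 (conj_eq_one_iff.1 e)
  -- `u z₁ u⁻¹ = z₁ v₀`
  set v₀ := z₁⁻¹ * u * z₁ * u⁻¹ with hv₀
  have hv₀U : v₀ ∈ D.Urad i := by
    have := X_conj_Urad ax ((D.X _).inv_mem hz₁X) hu
    rw [inv_inv] at this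
    exact (D.Urad i).mul_mem this ((D.Urad i).inv_mem hu)
  refine ⟨y * z₁ * y⁻¹, (D.X _).mul_mem ((D.X _).mul_mem hy hz₁X) ((D.X _).inv_mem hy),
    fun e => hz₁1 (conj_eq_one_iff.1 e), y * v₀ * y⁻¹, X_conj_Urad ax hy hv₀U, ?_⟩
  rw [hv₀, hz₁]
  group

theorem mem_B_of_conj_simp [Finite ι] {g : M} (hg : g ∈ D.grp)
    (h : ∀ i, ∃ z ∈ D.X (D.simp i), z ≠ 1 ∧ g * z * g⁻¹ ∈ D.B) : g ∈ D.B := by
  obtain ⟨l, hl⟩ := exists_cell ax hg
  by_contra hgB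
  have hne : D.wl l ≠ 1 := fun e => hgB ((mem_cell_one ax).1 (e ▸ hl))
  obtain ⟨i, hi⟩ := exists_simp_neg ax l hne
  obtain ⟨z, hz, hz1, hzB⟩ := h i
  obtain ⟨b, hb, c, hc, e⟩ := (mem_cell_iff ax (nw_mem_N l) (acts_nw ax l)).1 hl
  obtain ⟨z', hz', hz'1, v, hv, hcz⟩ := B_conj_simp ax hc hz hz1
  set n := D.nw l with hn
  have h1 : n * (z' * v) * n⁻¹ ∈ D.B := by
    have hmem := D.B.mul_mem (D.B.mul_mem (D.B.inv_mem hb) hzB) hb
    rw [e] at hmem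
    rw [← hcz]
    simpa [mul_assoc] using hmem
  set n₁ := n * (D.nn i)⁻¹ with hn₁
  have hn₁N : n₁ ∈ D.N := D.N.mul_mem (nw_mem_N l) (D.N.inv_mem (nn_mem_N i))
  have hn₁A : D.Acts n₁ (D.wl (l ++ [i])) := by
    have := (acts_nw ax l).mul ((acts_nn ax i).inv)
    rwa [refl_inv ax, show D.wl l * D.refl i = D.wl (l ++ [i]) by simp [wl_append, wl]] at this
  have hw : D.nn i * z' * (D.nn i)⁻¹ ∈ D.X (D.opp (D.simp i)) := by
    have := ax.conj_X i _ z' hz'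
    rwa [ax.refl_simp] at this
  obtain ⟨a, ha, t, ht, a', ha', hrk⟩ := ax.rank_one i _ hw (fun e => hz'1 (conj_eq_one_iff.1 e))
  set v' := D.nn i * v * (D.nn i)⁻¹ with hv'
  have hv'U : v' ∈ D.Urad i := nn_conj_Urad ax hv
  have h2 : (n₁ * (a * t) * n₁⁻¹) * n * (a' * v') * n₁⁻¹ ∈ D.B := by
    have : n * (z' * v) * n⁻¹ = (n₁ * (a * t) * n₁⁻¹) * n * (a' * v') * n₁⁻¹ := by
      have e1 : D.nn i * (z' * v) * (D.nn i)⁻¹ = a * t * D.nn i * a' * v' := by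
        rw [hv', ← hrk]
        group
      calc n * (z' * v) * n⁻¹ = n₁ * (D.nn i * (z' * v) * (D.nn i)⁻¹) * n₁⁻¹ := by rw [hn₁]; group
        _ = n₁ * (a * t * D.nn i * a' * v') * n₁⁻¹ := by rw [e1]
        _ = _ := by rw [hn₁]; group
    rwa [← this]
  have hpos : n₁ * (a * t) * n₁⁻¹ ∈ D.B := by
    rw [← conj_mul]
    refine D.B.mul_mem (U_le_B (X_le_U ?_ ((hn₁A _ a).2 ha))) (H_le_B (N_conj_H ax hn₁N ht))
    rw [wl_append, Equiv.Perm.mul_apply, show D.wl [i] = D.refl i by simp [wl], ax.refl_simp, wl_opp ax,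
      ax.pos_opp]
    exact hi
  have h3 : n * (a' * v') * n₁⁻¹ ∈ D.B := by
    have := D.B.mul_mem (D.B.inv_mem hpos) h2
    simpa [mul_assoc] using this
  have hc1 : n * (a' * v') ∈ D.cell (D.wl l) := by
    have := mul_mem_cell (mem_cell_of (nw_mem_N l) (acts_nw ax l)) D.B.one_mem
      (D.B.mul_mem (X_simp_le_B ax i ha') (Urad_le_B i hv'U))
    simpa [hn] using this
  have hc2 : n * (a' * v') ∈ D.cell (D.wl (l ++ [i])) := by
    have := mul_mem_cell (mem_cell_of hn₁N hn₁A) h3 D.B.one_mem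
    simpa [mul_assoc] using this
  have h4 := cell_disjoint ax hc1 hc2
  rw [wl_append, show D.wl [i] = D.refl i by simp [wl], left_eq_mul] at h4
  have h5 := ax.refl_simp i
  rw [h4, Equiv.Perm.one_apply] at h5
  have h6 := ax.pos_opp (D.simp i)
  rw [← h5] at h6
  exact iff_not_self h6

end Cfsg.Agent.RootBN.Data
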