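import Mathlib
import Cfsg.Agent.Lib.RootBN.Setup

/-!
Root subgroups central in `U`: their conjugates, and the centralizer of such a root element.
-/
set_option autoImplicit false

namespace Cfsg.Agent.RootBN

variable {M : Type*} [Group M] {ι : Type*} {κ : Type*}

namespace Data

variable {D : Data M ι κ} (ax : D.Axioms)
include ax

/-- An element of `B` normalises a root subgroup centralised by `U`. -/
theorem B_conj_central {r : ι} (hc : ∀ u ∈ D.U, ∀ z ∈ D.X r, u * z * u⁻¹ = z) {b z : M} (hb : b ∈ D.B)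
    (hz : z ∈ D.X r) : b * z * b⁻¹ ∈ D.X r := by
  obtain ⟨u, hu, h, hh, rfl⟩ := (mem_B_iff ax).1 hb
  have h1 := ax.H_conj r h hh z hz
  have h2 := hc u hu _ h1
  rwa [show u * h * z * (u * h)⁻¹ = u * (h * z * h⁻¹) * u⁻¹ by group, h2]

/-- A conjugate of a central root subgroup is a `B`-conjugate of a root subgroup in its orbit. -/
theorem exists_conj_root {r : ι} (hc : ∀ u ∈ D.U, ∀ z ∈ D.X r, u * z * u⁻¹ = z) {g : M}
    (hg : g ∈ D.grp) : ∃ b ∈ D.B, ∃ l : List κ,
      (D.X r).map (MulAut.conj g).toMonoidHom = (D.X (D.wl l r)).map (MulAut.conj b).toMonoidHom := by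
  obtain ⟨l, hl⟩ := exists_cell ax hg
  obtain ⟨b, hb, c, hc', rfl⟩ := (mem_cell_iff ax (nw_mem_N l) (acts_nw ax l)).1 hl
  refine ⟨b, hb, l, ?_⟩
  have hacts := acts_nw ax l
  ext x
  constructor
  · rintro ⟨z, hz, rfl⟩
    refine ⟨D.nw l * (c * z * c⁻¹) * (D.nw l)⁻¹, (hacts r _).2 (B_conj_central ax hc hc' hz), ?_⟩
    simp [MulAut.conj_apply, mul_assoc]
  · rintro ⟨y, hy, rfl⟩
    have hy' : (D.nw l)⁻¹ * y * D.nw l ∈ D.X r := by
      rw [← hacts r, show D.nw l * ((D.nw l)⁻¹ * y * D.nw l) * (D.nw l)⁻¹ = y by group]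
      exact hy
    refine ⟨c⁻¹ * ((D.nw l)⁻¹ * y * D.nw l) * c, ?_, ?_⟩
    · have := B_conj_central ax hc (D.B.inv_mem hc') hy'
      rwa [inv_inv] at this
    · simp [MulAut.conj_apply, mul_assoc]

variable [Finite ι]

/-- The stabiliser of a root `r` is generated by the fundamental reflections fixing it, given an
invariant relation saying that `s` has positive inner product with `r`. -/
theorem exists_stab_word (R : ι → ι → Prop) (hR : ∀ i s t, R s t → R (D.refl i s) (D.refl i t))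
    {r : ι} (hpos : ∀ s, R s r → D.Pos s) (hsimp : ∀ i, D.refl i r ≠ r → R (D.simp i) r) :
    ∀ (k : ℕ) (l : List κ), D.inv (D.wl l) = k → D.wl l r = r →
      ∃ l' : List κ, (∀ i ∈ l', D.refl i r = r) ∧ D.wl l' = D.wl l := by
  intro k
  induction k using Nat.strong_induction_on with
  | _ k ih =>
    intro l hk hlr
    by_cases h1 : D.wl l = 1
    · exact ⟨[], by simp, by simp [h1]⟩
    obtain ⟨i, hi⟩ := exists_descent ax h1
    have hR' : ∀ (l : List κ) s t, R s t → R (D.wl l s) (D.wl l t) := by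
      intro l
      induction l with
      | nil => simp
      | cons j l ihl => intro s t h; simpa using hR j _ _ (ihl s t h)
    have hir : D.refl i r = r := by
      by_contra hne
      refine hi (hpos _ ?_)
      have := hR' l.reverse _ _ (hsimp i hne)
      rwa [wl_reverse ax, show (D.wl l)⁻¹ r = r from Equiv.Perm.inv_eq_iff_eq.2 hlr.symm] at this
    have hdec := inv_refl_mul_neg ax l hi
    obtain ⟨l', hl', hw⟩ := ih (D.inv (D.wl (i :: l))) (by rw [wl_cons]; omega) (i :: l) rfl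
      (by rw [wl_cons, Equiv.Perm.mul_apply, hlr, hir])
    refine ⟨i :: l', fun j hj => ?_, ?_⟩
    · rcases List.mem_cons.1 hj with rfl | hj
      · exact hir
      · exact hl' j hj
    · rw [wl_cons, hw, wl_cons, refl_mul_refl_mul ax]

/-- The centralizer of a central root element. -/
theorem centralizer_central_root {r : ι} (hposr : D.Pos r) {z : M} (hz : z ∈ D.X r) (hz1 : z ≠ 1)
    (hc : ∀ u ∈ D.U, u * z = z * u)
    (hdisj : ∀ s, D.Pos s → s ≠ r → z ∉ D.X s)
    (R : ι → ι → Prop) (hR : ∀ i s t, R s t → R (D.refl i s) (D.refl i t))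
    (hpos : ∀ s, R s r → D.Pos s) (hsimp : ∀ i, D.refl i r ≠ r → R (D.simp i) r)
    (hnn : ∀ i, D.refl i r = r → D.nn i * z = z * D.nn i)
    {g : M} (hg : g ∈ D.grp) (hgz : g * z = z * g) :
    g ∈ D.U ⊔ (D.H ⊓ Subgroup.centralizer {z}) ⊔ Subgroup.closure (D.nn '' {i | D.refl i r = r}) := by
  obtain ⟨l, n, hn, hσ, b, hb, c, hcB, rfl⟩ := exists_cell ax hg
  obtain ⟨u, hu, h₁, hh₁, rfl⟩ := (mem_B_iff ax).1 hb
  obtain ⟨u₂, hu₂, h₂, hh₂, rfl⟩ := (mem_B_iff ax).1 hcB
  set v := h₂⁻¹ * u₂ * h₂ with hv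
  have hvU : v ∈ D.U := by
    have := H_conj_U ax (D.H.inv_mem hh₂) hu₂
    rwa [inv_inv] at this
  set n' := h₁ * n * h₂ with hn'
  have hn'N : n' ∈ D.N := D.N.mul_mem (D.N.mul_mem (H_le_N hh₁) hn) (H_le_N hh₂)
  have hσ' : D.Acts n' (D.wl l) := by
    simpa using ((acts_H ax hh₁).mul hσ).mul (acts_H ax hh₂)
  have hg' : u * h₁ * n * (u₂ * h₂) = u * n' * v := by simp only [hv, hn']; group
  have hn'z : n' * z = z * n' := by
    rw [hg'] at hgz
    have h3 : u * (n' * z) * v = u * (z * n') * v := by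
      calc u * (n' * z) * v = u * n' * (z * v) := by group
        _ = u * n' * (v * z) := by rw [hc v hvU]
        _ = u * n' * v * z := by group
        _ = z * (u * n' * v) := hgz
        _ = z * u * n' * v := by group
        _ = u * z * n' * v := by rw [hc u hu]
        _ = u * (z * n') * v := by group
    exact mul_left_cancel (mul_right_cancel h3)
  have hzσ : z ∈ D.X (D.wl l r) := by
    have := (hσ' r z).2 hz
    rwa [hn'z, mul_inv_cancel_right] at this
  have hfix : D.wl l r = r := by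
    by_contra hne
    by_cases hp : D.Pos (D.wl l r)
    · exact hdisj _ hp hne hzσ
    · have hzB : z ∈ D.B := U_le_B (X_le_U hposr hz)
      exact hz1 ((Subgroup.mem_bot).1 (ax.neg_not_mem _ hp ▸ Subgroup.mem_inf.2 ⟨hzσ, hzB⟩))
  obtain ⟨l', hl', hw⟩ := exists_stab_word ax R hR hpos hsimp _ l rfl hfix
  have hh : n' * (D.nw l')⁻¹ ∈ D.H := mul_inv_mem_H ax hn'N (nw_mem_N l') hσ' (hw ▸ acts_nw ax l')
  have hnw : D.nw l' * z = z * D.nw l' := by
    have : D.nw l' ∈ Subgroup.centralizer {z} := Subgroup.list_prod_mem _ fun x hx => by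
      obtain ⟨i, hi, rfl⟩ := List.mem_map.1 hx
      exact Subgroup.mem_centralizer_singleton_iff.2 (hnn i (hl' i hi))
    exact Subgroup.mem_centralizer_singleton_iff.1 this
  have hhz : n' * (D.nw l')⁻¹ * z = z * (n' * (D.nw l')⁻¹) := by
    calc n' * (D.nw l')⁻¹ * z = n' * ((D.nw l')⁻¹ * (z * D.nw l')) * (D.nw l')⁻¹ := by group
      _ = n' * ((D.nw l')⁻¹ * (D.nw l' * z)) * (D.nw l')⁻¹ := by rw [hnw]
      _ = n' * z * (D.nw l')⁻¹ := by group
      _ = _ := by rw [hn'z]; group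
  set C := D.U ⊔ (D.H ⊓ Subgroup.centralizer {z}) ⊔ Subgroup.closure (D.nn '' {i | D.refl i r = r})
  rw [hg', show n' = n' * (D.nw l')⁻¹ * D.nw l' by group]
  refine C.mul_mem (C.mul_mem (Subgroup.mem_sup_left (Subgroup.mem_sup_left hu)) (C.mul_mem ?_ ?_))
    (Subgroup.mem_sup_left (Subgroup.mem_sup_left hvU))
  · exact Subgroup.mem_sup_left (Subgroup.mem_sup_right ⟨hh, Subgroup.mem_centralizer_singleton_iff.2 hhz⟩)
  · exact Subgroup.mem_sup_right (Subgroup.list_prod_mem _ fun x hx => by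
      obtain ⟨i, hi, rfl⟩ := List.mem_map.1 hx
      exact Subgroup.subset_closure ⟨i, hl' i hi, rfl⟩)

end Data

end Cfsg.Agent.RootBN
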