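import Cfsg.Agent.Lib.RootBN.NormalForm

/-!
With trivial torus: if a simple root goes negative under `w` and both `x` and its conjugate by `w` lie in `U`,
then `x` lies in the radical of that simple root.
-/

set_option autoImplicit false

namespace Cfsg.Agent.RootBN.Data

variable {M : Type*} [Group M] {ι : Type*} {κ : Type*} {D : Data M ι κ}
variable (ax : D.Axioms)
include ax

theorem conj_Um_le {V : Subgroup M} (hV : ∀ r, ¬ D.Pos r → D.X r ≤ V) (l : List κ) {u : M}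
    (hu : u ∈ D.Um (D.wl l)) : D.nw l * u * (D.nw l)⁻¹ ∈ V := by
  have hle : D.Um (D.wl l) ≤ V.comap (MulAut.conj (D.nw l)).toMonoidHom :=
    iSup₂_le fun r hr y hy => hV _ hr.2 ((acts_nw ax l r y).2 hy)
  exact hle hu

theorem mem_Urad_of_conj [Finite ι] (hH : D.H = ⊥) {V : Subgroup M} (hV : ∀ r, ¬ D.Pos r → D.X r ≤ V)
    (hBV : D.B ⊓ V = ⊥) (l : List κ) (i : κ) (hi : ¬ D.Pos (D.wl l (D.simp i))) {x : M} (hx : x ∈ D.U)
    (hnx : D.nw l * x * (D.nw l)⁻¹ ∈ D.U) : x ∈ D.Urad i := by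
  obtain ⟨y, hy, v, hv, rfl⟩ := U_eq_mul ax i hx
  suffices hy1 : y = 1 by rw [hy1, one_mul]; exact hv
  have hv'U : y * v * y⁻¹ ∈ D.Urad i := X_conj_Urad ax hy hv
  have hsq : D.nn i * D.nn i = 1 := by
    have := ax.nn_sq i
    rwa [hH, Subgroup.mem_bot] at this
  have hn : D.nw l = D.nw (l ++ [i]) * D.nn i := by
    rw [nw_append, nw_cons, nw_nil, mul_one, mul_assoc, hsq, mul_one]
  have hc : D.nn i * (y * v * y⁻¹) * (D.nn i)⁻¹ ∈ D.U := Urad_le_U i (nn_conj_Urad ax hv'U)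
  have hy' : D.nn i * y * (D.nn i)⁻¹ ∈ D.X (D.opp (D.simp i)) := by
    have := ax.conj_X i _ y hy
    rwa [ax.refl_simp] at this
  obtain ⟨b, hb, u', hu', e⟩ := exists_mul_Um ax (l ++ [i]) hc
  have hY : D.nw (l ++ [i]) * (D.nn i * y * (D.nn i)⁻¹) * (D.nw (l ++ [i]))⁻¹ ∈ V := by
    refine hV (D.wl (l ++ [i]) (D.opp (D.simp i))) ?_ ((acts_nw ax (l ++ [i]) _ _).2 hy')
    rw [wl_append, wl_cons, wl_nil, mul_one, Equiv.Perm.mul_apply, refl_opp_simp ax]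
    exact hi
  have key : D.nw l * (y * v) * (D.nw l)⁻¹ = b * (D.nw (l ++ [i]) * u' * (D.nw (l ++ [i]))⁻¹ *
      (D.nw (l ++ [i]) * (D.nn i * y * (D.nn i)⁻¹) * (D.nw (l ++ [i]))⁻¹)) := by
    rw [hn]
    calc D.nw (l ++ [i]) * D.nn i * (y * v) * (D.nw (l ++ [i]) * D.nn i)⁻¹
        = D.nw (l ++ [i]) * (D.nn i * (y * v * y⁻¹) * (D.nn i)⁻¹) * (D.nn i * y * (D.nn i)⁻¹) *
            (D.nw (l ++ [i]))⁻¹ := by group
      _ = _ := by rw [e]; group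
  have hWB : D.nw (l ++ [i]) * u' * (D.nw (l ++ [i]))⁻¹ *
      (D.nw (l ++ [i]) * (D.nn i * y * (D.nn i)⁻¹) * (D.nw (l ++ [i]))⁻¹) ∈ D.B ⊓ V := by
    refine ⟨U_le_B ?_, mul_mem (conj_Um_le ax hV _ hu') hY⟩
    have := mul_mem (inv_mem hb) (key ▸ hnx)
    rwa [inv_mul_cancel_left] at this
  rw [hBV, Subgroup.mem_bot] at hWB
  have h1 : u' * (D.nn i * y * (D.nn i)⁻¹) = 1 := by
    have := congrArg (fun z => (D.nw (l ++ [i]))⁻¹ * z * D.nw (l ++ [i])) hWB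
    simpa [mul_assoc] using this
  have hy'B : D.nn i * y * (D.nn i)⁻¹ ∈ D.B := by
    rw [eq_inv_of_mul_eq_one_right h1]
    exact inv_mem (U_le_B (Um_le_U _ hu'))
  have : D.nn i * y * (D.nn i)⁻¹ ∈ (⊥ : Subgroup M) :=
    ax.neg_not_mem _ (not_pos_opp_simp ax i) ▸ ⟨hy', hy'B⟩
  rw [Subgroup.mem_bot, mul_inv_eq_one, mul_eq_left] at this
  exact this

end Cfsg.Agent.RootBN.Data
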