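import Cfsg.Agent.Lib.RootBN.Fixed
import Cfsg.Agent.Lib.RootBN.NormalForm

/-!
# Twisted groups with root subgroups

An automorphism `σ` permuting the root subgroups along a map whose orbits are the fibres of `orb` gives
new data on the set of orbits: the root subgroups are the fixed elements of the groups generated by an orbit
of root subgroups.
-/

set_option autoImplicit false

namespace Cfsg.Agent.RootBN

variable {M : Type*} [Group M] {ι : Type*} {κ : Type*} {ι' : Type*} {κ' : Type*}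

/-- The data of a twist. -/
structure Twist (D : Data M ι κ) (ι' : Type*) (κ' : Type*) where
  /-- the automorphism -/
  σ : M ≃* M
  /-- the permutation of the roots induced by it -/
  ρ : ι → ι
  /-- the orbit of a root -/
  orb : ι → ι'
  /-- a root in each orbit -/
  rep : ι' → ι
  /-- the simple orbits as words -/
  J : κ' → List κ
  /-- the simple orbits as orbits -/
  simp' : κ' → ι'
  /-- the reflections of the orbits -/
  refl' : κ' → Equiv.Perm ι'
  /-- an orbit as image of a simple one -/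
  reachW : ι' → List κ' × κ'

namespace Twist

variable {D : Data M ι κ} (T : Twist D ι' κ')

/-- A word in the simple orbits as a word in the simple roots. -/
def flat (l : List κ') : List κ := l.flatMap T.J

/-- Positivity of orbits. -/
def Pos' (o : ι') : Prop := D.Pos (T.rep o)

/-- The negative of an orbit. -/
def opp' (o : ι') : ι' := T.orb (D.opp (T.rep o))

/-- The group generated by the root subgroups of an orbit. -/
def Xorb (o : ι') : Subgroup M := ⨆ (r : ι) (_ : T.orb r = o), D.X r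

/-- The fixed elements. -/
def Fix : Subgroup M := T.σ.toMonoidHom.eqLocus (MonoidHom.id M)

/-- The root subgroup of an orbit. -/
def X' (o : ι') : Subgroup M := T.Xorb o ⊓ T.Fix

/-- The twisted group. -/
def Gt : Subgroup M := ⨆ o : ι', T.X' o

/-- The product of the representatives of a simple orbit. -/
def nn' (j : κ') : M := D.nw (T.J j)

/-- The word of the reflection in an orbit. -/
def reflWord (o : ι') : List κ' := (T.reachW o).1 ++ (T.reachW o).2 :: (T.reachW o).1.reverse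

/-- The new data. -/
def data : Data M ι' κ' where
  X := T.X'
  H := D.H ⊓ T.Gt
  nn := T.nn'
  nroot o := D.nw (T.flat (T.reflWord o))
  refl := T.refl'
  opp := T.opp'
  simp := T.simp'
  Pos := T.Pos'

/-- The product of the negative root subgroups. -/
def negU (D : Data M ι κ) : Subgroup M := ⨆ (r : ι) (_ : ¬ D.Pos r), D.X r

/-- The positive orbits made negative by a reversed word, in order of the factors. -/
def roots (T : Twist D ι' κ') : List κ' → List ι'
  | [] => []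
  | j :: R => (roots T R).map (T.refl' j) ++ [T.simp' j]

/-- A reversed word is reduced. -/
def Reduced (T : Twist D ι' κ') : List κ' → Prop
  | [] => True
  | j :: R => Reduced T R ∧ T.simp' j ∉ roots T R

/-- A reversed word for the longest element. -/
def Longest (T : Twist D ι' κ') (R : List κ') : Prop :=
  T.Reduced R ∧ ∀ r, D.Pos r → ¬ D.Pos (D.wl (T.flat R.reverse) r)

/-- The axioms of a twist. -/
structure Axioms : Prop where
  base : D.Axioms
  orb_rep : ∀ o, T.orb (T.rep o) = o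
  pos_orb : ∀ r, D.Pos r ↔ D.Pos (T.rep (T.orb r))
  opp_orb : ∀ r, T.orb (D.opp r) = T.opp' (T.orb r)
  refl_orb : ∀ j r, T.orb (D.wl (T.J j) r) = T.refl' j (T.orb r)
  mem_J : ∀ j r, T.orb r = T.simp' j ↔ r ∈ (T.J j).map D.simp
  J_ne : ∀ j, T.J j ≠ []
  simp'_inj : Function.Injective T.simp'
  refl_simpJ : ∀ j, ∀ k ∈ T.J j, D.wl (T.J j) (D.simp k) = D.opp (D.simp k)
  pos_refl : ∀ j r, D.Pos r → T.orb r ≠ T.simp' j → D.Pos (D.wl (T.J j) r)
  J_sq : ∀ j k, D.wl (T.J j ++ T.J j) (D.simp k) = D.simp k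
  reach : ∀ o, (T.reachW o).1.foldr (fun i x => T.refl' i x) (T.simp' (T.reachW o).2) = o
  reach_simp : ∀ j, T.reachW (T.simp' j) = ([], j)
  reach_refl : ∀ i o k, D.wl (T.flat (i :: (T.reflWord o ++ [i]))) (D.simp k) =
    D.wl (T.flat (T.reflWord (T.refl' i o))) (D.simp k)
  orb_ρ : ∀ r, T.orb (T.ρ r) = T.orb r
  σ_X : ∀ r, ∀ y ∈ D.X r, T.σ y ∈ D.X (T.ρ r)
  σ_nn' : ∀ j, T.σ (T.nn' j) = T.nn' j
  nn'_mem : ∀ j, T.nn' j ∈ T.Gt
  comm_J : ∀ j, ∀ k ∈ T.J j, ∀ k' ∈ T.J j, k ≠ k' → ∀ y ∈ D.X (D.simp k), ∀ z ∈ D.X (D.simp k'),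
    y * z = z * y
  X'_ne_bot : ∀ j, T.X' (T.simp' j) ≠ ⊥
  rank_one' : ∀ j, ∀ y ∈ T.X' (T.opp' (T.simp' j)), y ≠ 1 →
    ∃ a ∈ T.X' (T.simp' j), ∃ h ∈ D.H, ∃ b ∈ T.X' (T.simp' j), y = a * h * T.nn' j * b
  B_inf_negU : D.B ⊓ negU D = ⊥
  J_nodup : ∀ j, (T.J j).Nodup
  refl_J : ∀ j, ∀ k ∈ T.J j, ∀ k' ∈ T.J j, k ≠ k' → D.refl k (D.simp k') = D.simp k'
  cover : ∀ j, ∃ R, Reduced T (j :: R) ∧ ∀ r, D.Pos r → ¬ D.Pos (D.wl (T.flat (j :: R).reverse) r)

variable {T}

theorem Xorb_le_U {o : ι'} (hpos : ∀ r, T.orb r = o → D.Pos r) : T.Xorb o ≤ D.U :=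
  iSup₂_le fun r hr => Data.X_le_U (hpos r hr)

theorem X_le_Xorb {r : ι} {o : ι'} (h : T.orb r = o) : D.X r ≤ T.Xorb o :=
  le_iSup₂ (f := fun r (_ : T.orb r = o) => D.X r) r h

theorem X'_le_Gt (o : ι') : T.X' o ≤ T.Gt := le_iSup T.X' o

theorem Gt_le_Fix : T.Gt ≤ T.Fix := iSup_le fun _ => inf_le_right

theorem mem_Fix {g : M} : g ∈ T.Fix ↔ T.σ g = g := Iff.rfl

theorem flat_cons (i : κ') (l : List κ') : T.flat (i :: l) = T.J i ++ T.flat l := List.flatMap_cons

theorem flat_append (l l' : List κ') : T.flat (l ++ l') = T.flat l ++ T.flat l' := List.flatMap_append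

theorem flat_singleton (i : κ') : T.flat [i] = T.J i := by simp [flat]

theorem nw_data (l : List κ') : T.data.nw l = D.nw (T.flat l) := by
  induction l with
  | nil => rfl
  | cons i l ih => rw [Data.nw_cons, flat_cons, Data.nw_append, ih]; rfl

variable (hT : T.Axioms)
include hT

theorem Xorb_pos_le_U {o : ι'} (ho : T.Pos' o) : T.Xorb o ≤ D.U :=
  Xorb_le_U fun r hr => (hT.pos_orb r).2 (hr ▸ ho)

theorem Xorb_neg_le_negU {o : ι'} (ho : ¬ T.Pos' o) : T.Xorb o ≤ negU D :=
  iSup₂_le fun r hr => le_iSup₂ (f := fun r (_ : ¬ D.Pos r) => D.X r) r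
    (fun h => ho (hr ▸ (hT.pos_orb r).1 h))

theorem σ_Xorb {o : ι'} {y : M} (hy : y ∈ T.Xorb o) : T.σ y ∈ T.Xorb o :=
  (show T.Xorb o ≤ (T.Xorb o).comap T.σ.toMonoidHom from
    iSup₂_le fun r hr z hz => X_le_Xorb (by rw [hT.orb_ρ, hr]) (hT.σ_X r z hz)) hy

theorem σ_U {u : M} (hu : u ∈ D.U) : T.σ u ∈ D.U :=
  (show D.U ≤ D.U.comap T.σ.toMonoidHom from
    iSup₂_le fun r hr z hz => Data.X_le_U ((hT.pos_orb _).2 (by rw [hT.orb_ρ]; exact (hT.pos_orb r).1 hr))
      (hT.σ_X r z hz)) hu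

theorem orb_wl (l : List κ') (r : ι) : T.orb (D.wl (T.flat l) r) = T.data.wl l (T.orb r) := by
  induction l with
  | nil => rfl
  | cons i l ih =>
    rw [flat_cons, Data.wl_append, Equiv.Perm.mul_apply, hT.refl_orb, ih, Data.wl_cons,
      Equiv.Perm.mul_apply]
    rfl

theorem wl_J_sq (j : κ') : D.wl (T.J j) * D.wl (T.J j) = 1 := by
  rw [← Data.wl_append]
  by_contra hne
  obtain ⟨k, hk⟩ := Data.exists_simp_neg hT.base _ hne
  rw [hT.J_sq] at hk
  exact hk (hT.base.pos_simp k)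

theorem wl_J_inv (j : κ') : (D.wl (T.J j))⁻¹ = D.wl (T.J j) :=
  inv_eq_of_mul_eq_one_right (wl_J_sq hT j)

theorem acts_nn' (j : κ') : D.Acts (T.nn' j) (D.wl (T.J j)) := Data.acts_nw hT.base _

theorem nn'_conj {j : κ'} {o : ι'} {y : M} (hy : y ∈ T.Xorb o) :
    T.nn' j * y * (T.nn' j)⁻¹ ∈ T.Xorb (T.refl' j o) :=
  (show T.Xorb o ≤ (T.Xorb (T.refl' j o)).comap (MulAut.conj (T.nn' j)).toMonoidHom from
    iSup₂_le fun r hr z hz => X_le_Xorb (by rw [hT.refl_orb, hr]) ((acts_nn' hT j r z).2 hz)) hy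

theorem nn'_inv_conj {j : κ'} {o : ι'} {y : M} (hy : y ∈ T.Xorb o) :
    (T.nn' j)⁻¹ * y * T.nn' j ∈ T.Xorb (T.refl' j o) :=
  (show T.Xorb o ≤ (T.Xorb (T.refl' j o)).comap (MulAut.conj (T.nn' j)⁻¹).toMonoidHom from
    iSup₂_le fun r hr z hz => by
      have := ((acts_nn' hT j).inv r z).2 hz
      rw [wl_J_inv hT] at this
      exact X_le_Xorb (by rw [hT.refl_orb, hr]) (by simpa using this)) hy |> fun h => by simpa using h

theorem simp'_pos (j : κ') : T.Pos' (T.simp' j) := by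
  obtain ⟨k, hk⟩ := List.exists_mem_of_ne_nil _ (hT.J_ne j)
  have h : T.orb (D.simp k) = T.simp' j := (hT.mem_J j _).2 (List.mem_map.2 ⟨k, hk, rfl⟩)
  exact h ▸ (hT.pos_orb _).1 (hT.base.pos_simp k)

theorem opp'_pos (o : ι') : T.Pos' (T.opp' o) ↔ ¬ T.Pos' o := by
  show D.Pos (T.rep (T.orb (D.opp (T.rep o)))) ↔ _
  rw [← hT.pos_orb, hT.base.pos_opp]
  rfl

theorem opp'_opp' (o : ι') : T.opp' (T.opp' o) = o := by
  conv_lhs => rw [show T.opp' o = T.orb (D.opp (T.rep o)) from rfl]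
  rw [← hT.opp_orb, hT.base.opp_opp, hT.orb_rep]

theorem refl'_refl' (j : κ') (o : ι') : T.refl' j (T.refl' j o) = o := by
  conv_rhs => rw [← hT.orb_rep o, show T.rep o = (D.wl (T.J j) * D.wl (T.J j)) (T.rep o) by
    rw [wl_J_sq hT]; rfl, Equiv.Perm.mul_apply, hT.refl_orb, hT.refl_orb, hT.orb_rep]

theorem refl'_simp' (j : κ') : T.refl' j (T.simp' j) = T.opp' (T.simp' j) := by
  obtain ⟨k, hk⟩ := List.exists_mem_of_ne_nil _ (hT.J_ne j)
  have h : T.orb (D.simp k) = T.simp' j := (hT.mem_J j _).2 (List.mem_map.2 ⟨k, hk, rfl⟩)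
  rw [← h, ← hT.refl_orb, hT.refl_simpJ j k hk, hT.opp_orb, h]

theorem refl'_pos {j : κ'} {o : ι'} (ho : T.Pos' o) (hne : o ≠ T.simp' j) : T.Pos' (T.refl' j o) := by
  rw [← hT.orb_rep o, ← hT.refl_orb]
  exact (hT.pos_orb _).1 (hT.pos_refl j _ ho (by rwa [hT.orb_rep]))

/-! ### Factorisation of `U` -/

theorem roots_pos : ∀ {R : List κ'}, T.Reduced R → ∀ o ∈ T.roots R, T.Pos' o
  | [], _, o, ho => absurd ho List.not_mem_nil
  | j :: R, h, o, ho => by
    rcases List.mem_append.1 ho with ho | ho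
    · obtain ⟨o', ho', rfl⟩ := List.mem_map.1 ho
      exact refl'_pos hT (roots_pos h.1 o' ho') (fun e => h.2 (e ▸ ho'))
    · rw [List.mem_singleton.1 ho]; exact simp'_pos hT j

omit hT in
theorem prod_mem_of_forall₂ {K : Subgroup M} {P : ι' → Subgroup M} :
    ∀ {os : List ι'} {ys : List M}, List.Forall₂ (fun o y => y ∈ P o) os ys → (∀ o ∈ os, P o ≤ K) →
      ys.prod ∈ K
  | [], _, .nil, _ => by simp
  | o :: os, _, .cons hy hys, h => by
    rw [List.prod_cons]
    exact K.mul_mem (h o List.mem_cons_self hy)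
      (prod_mem_of_forall₂ hys fun o' ho' => h o' (List.mem_cons_of_mem _ ho'))

omit hT in
theorem forall₂_split_last {α β : Type*} {P : α → β → Prop} :
    ∀ {l : List α} {x : α} {zs : List β}, List.Forall₂ P (l ++ [x]) zs →
      ∃ a y, List.Forall₂ P l a ∧ P x y ∧ zs = a ++ [y]
  | [], _, _, .cons h .nil => ⟨[], _, .nil, h, rfl⟩
  | _ :: _, _, _, .cons h hs => by
    obtain ⟨a, y, ha, hy, rfl⟩ := forall₂_split_last hs
    exact ⟨_ :: a, y, .cons h ha, hy, rfl⟩

omit hT in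
theorem forall₂_append {α β : Type*} {P : α → β → Prop} :
    ∀ {l l' : List α} {m m' : List β}, List.Forall₂ P l m → List.Forall₂ P l' m' →
      List.Forall₂ P (l ++ l') (m ++ m')
  | [], _, _, _, .nil, h' => h'
  | _ :: _, _, _, _, .cons h hs, h' => .cons h (forall₂_append hs h')

omit hT in
theorem prod_conj (n : M) : ∀ ys : List M, (ys.map fun y => n * y * n⁻¹).prod = n * ys.prod * n⁻¹
  | [] => by simp
  | y :: ys => by rw [List.map_cons, List.prod_cons, List.prod_cons, prod_conj n ys]; group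

omit hT in
theorem nw_flat_reverse (j : κ') (R : List κ') :
    D.nw (T.flat (j :: R).reverse) = D.nw (T.flat R.reverse) * T.nn' j := by
  rw [List.reverse_cons, flat_append, Data.nw_append, flat_singleton]
  rfl

theorem exists_factor [Finite ι] : ∀ {R : List κ'}, T.Reduced R → ∀ {u : M}, u ∈ D.U →
    ∃ v ∈ D.U, ∃ ys : List M, List.Forall₂ (fun o y => y ∈ T.Xorb o) (T.roots R) ys ∧ u = v * ys.prod ∧
      D.nw (T.flat R.reverse) * v * (D.nw (T.flat R.reverse))⁻¹ ∈ D.U
  | [], _, u, hu => ⟨u, hu, [], .nil, by simp, by simpa [flat] using hu⟩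
  | j :: R, h, u, hu => by
    obtain ⟨b, hb, y, hy, e⟩ := Data.exists_mul_Um hT.base (T.J j) hu
    have hy' : y ∈ T.Xorb (T.simp' j) := by
      refine (show D.Um (D.wl (T.J j)) ≤ _ from iSup₂_le fun r hr => X_le_Xorb ?_) hy
      by_contra hne
      exact hr.2 (hT.pos_refl j r hr.1 hne)
    change T.nn' j * u = b * T.nn' j * y at e
    obtain ⟨v, -, ys, hys, e', hv'⟩ := exists_factor h.1 hb
    have hu' : u = (T.nn' j)⁻¹ * v * T.nn' j * (ys.map fun z => (T.nn' j)⁻¹ * z * T.nn' j).prod * y := by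
      rw [show u = (T.nn' j)⁻¹ * (T.nn' j * u) by group, e, e']
      have hp := prod_conj (T.nn' j)⁻¹ ys
      simp only [inv_inv] at hp
      rw [hp]
      group
    have hys' : List.Forall₂ (fun o z => z ∈ T.Xorb o) (T.roots (j :: R))
        (ys.map (fun z => (T.nn' j)⁻¹ * z * T.nn' j) ++ [y]) :=
      forall₂_append (P := fun o z => z ∈ T.Xorb o) (List.forall₂_map_left_iff.2 (List.forall₂_map_right_iff.2
        (hys.imp fun _ _ hz => nn'_inv_conj hT (j := j) hz))) (.cons hy' .nil)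
    have hpU := prod_mem_of_forall₂ hys' (fun o ho => Xorb_pos_le_U hT (roots_pos hT h o ho))
    refine ⟨(T.nn' j)⁻¹ * v * T.nn' j, ?_, _, hys', ?_, ?_⟩
    · have := D.U.mul_mem hu (D.U.inv_mem hpU)
      rw [hu', List.prod_append, List.prod_singleton] at this
      simpa [mul_assoc] using this
    · rw [List.prod_append, List.prod_singleton, hu']; simp [mul_assoc]
    · rw [nw_flat_reverse]
      simpa [mul_assoc] using hv'

theorem factor_unique [Finite ι] : ∀ {R : List κ'}, T.Reduced R → ∀ {ys ys' : List M},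
    List.Forall₂ (fun o y => y ∈ T.Xorb o) (T.roots R) ys →
    List.Forall₂ (fun o y => y ∈ T.Xorb o) (T.roots R) ys' → ys.prod = ys'.prod → ys = ys'
  | [], _, _, _, .nil, .nil, _ => rfl
  | j :: R, h, ys, ys', hys, hys', e => by
    have split : ∀ {zs : List M}, List.Forall₂ (fun o y => y ∈ T.Xorb o) (T.roots (j :: R)) zs →
        ∃ a, ∃ y ∈ T.Xorb (T.simp' j), zs = a ++ [y] ∧ List.Forall₂ (fun o y => y ∈ T.Xorb o)
          (T.roots R) (a.map fun z => T.nn' j * z * (T.nn' j)⁻¹) := by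
      intro zs hzs
      obtain ⟨l, y, hl, hy, rfl⟩ := forall₂_split_last hzs
      refine ⟨l, y, hy, rfl, List.forall₂_map_right_iff.2 ((List.forall₂_map_left_iff.1 hl).imp ?_)⟩
      intro o z hz
      have := nn'_conj hT (j := j) hz
      rwa [refl'_refl' hT] at this
    obtain ⟨a, y, hy, rfl, ha⟩ := split hys
    obtain ⟨a', y', hy', rfl, ha'⟩ := split hys'
    rw [List.prod_append, List.prod_append, List.prod_singleton, List.prod_singleton] at e
    have hU : ∀ {c : List M}, List.Forall₂ (fun o y => y ∈ T.Xorb o) (T.roots R)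
        (c.map fun z => T.nn' j * z * (T.nn' j)⁻¹) → T.nn' j * c.prod * (T.nn' j)⁻¹ ∈ D.U := by
      intro c hc
      rw [← prod_conj]
      exact prod_mem_of_forall₂ hc (fun o ho => Xorb_pos_le_U hT (roots_pos hT h.1 o ho))
    have h1 : T.nn' j * (y * y'⁻¹) * (T.nn' j)⁻¹ ∈ D.B ⊓ negU D := by
      constructor
      · have := D.U.mul_mem (D.U.inv_mem (hU ha)) (hU ha')
        refine Data.U_le_B ?_
        have e' : y * y'⁻¹ = a.prod⁻¹ * a'.prod := by
          rw [eq_inv_mul_iff_mul_eq, ← mul_assoc, e, mul_inv_cancel_right]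
        rw [e']
        simpa [mul_assoc] using this
      · refine Xorb_neg_le_negU hT (o := T.refl' j (T.simp' j)) ?_ (nn'_conj hT
          ((T.Xorb _).mul_mem hy ((T.Xorb _).inv_mem hy')))
        rw [refl'_simp' hT, opp'_pos hT, not_not]
        exact simp'_pos hT j
    rw [hT.B_inf_negU, Subgroup.mem_bot, conj_eq_one_iff, mul_inv_eq_one] at h1
    subst h1
    have e1 := factor_unique h.1 ha ha' (by rw [prod_conj, prod_conj, mul_right_cancel e])
    rw [(List.map_injective_iff.2 fun z z' hz => by simpa using hz) e1]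

theorem exists_factor_longest [Finite ι] {R : List κ'} (hR : T.Longest R) {u : M} (hu : u ∈ D.U) :
    ∃ ys : List M, List.Forall₂ (fun o y => y ∈ T.Xorb o) (T.roots R) ys ∧ u = ys.prod := by
  obtain ⟨v, hv, ys, hys, e, hv'⟩ := exists_factor hT hR.1 hu
  refine ⟨ys, hys, ?_⟩
  have : D.nw (T.flat R.reverse) * v * (D.nw (T.flat R.reverse))⁻¹ ∈ D.B ⊓ negU D := by
    refine ⟨Data.U_le_B hv', ?_⟩
    exact (show D.U ≤ (negU D).comap (MulAut.conj (D.nw (T.flat R.reverse))).toMonoidHom from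
      iSup₂_le fun r hr z hz => le_iSup₂ (f := fun r (_ : ¬ D.Pos r) => D.X r) _ (hR.2 r hr)
        ((Data.acts_nw hT.base _ r z).2 hz)) hv
  rw [hT.B_inf_negU, Subgroup.mem_bot, conj_eq_one_iff] at this
  rw [e, this, one_mul]

theorem exists_fixed_factor [Finite ι] {R : List κ'} (hR : T.Longest R) {u : M} (hu : u ∈ D.U)
    (hfix : T.σ u = u) :
    ∃ ys : List M, List.Forall₂ (fun o y => y ∈ T.X' o) (T.roots R) ys ∧ u = ys.prod := by
  obtain ⟨ys, hys, e⟩ := exists_factor_longest hT hR hu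
  have h1 : ys.map T.σ = ys := by
    refine factor_unique hT hR.1 (List.forall₂_map_right_iff.2 (hys.imp fun _ _ hz => σ_Xorb hT hz)) hys ?_
    rw [← e, ← map_list_prod, ← e, hfix]
  refine ⟨ys, ?_, e⟩
  have h2 : ∀ {os : List ι'} {zs : List M}, List.Forall₂ (fun o y => y ∈ T.Xorb o) os zs →
      zs.map T.σ = zs → List.Forall₂ (fun o y => y ∈ T.X' o) os zs := by
    intro os zs hzs
    induction hzs with
    | nil => exact fun _ => .nil
    | cons hy _ ih =>
      intro h
      rw [List.map_cons, List.cons.injEq] at h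
      exact .cons ⟨hy, mem_Fix.2 h.1⟩ (ih h.2)
  exact h2 hys h1

theorem mem_U'_of_fixed [Finite ι] {R : List κ'} (hR : T.Longest R) {u : M} (hu : u ∈ D.U)
    (hfix : T.σ u = u) : u ∈ T.data.U := by
  obtain ⟨ys, hys, rfl⟩ := exists_fixed_factor hT hR hu hfix
  exact prod_mem_of_forall₂ hys (fun o ho => Data.X_le_U (D := T.data) (roots_pos hT hR.1 o ho))

theorem mem_Urad'_of_fixed [Finite ι] {j : κ'} {R : List κ'} (hR : T.Longest (j :: R))
    (hnd : T.simp' j ∉ (T.roots R).map (T.refl' j)) {u : M} (hu : u ∈ D.U) (hfix : T.σ u = u)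
    (hrad : ∀ k ∈ T.J j, u ∈ D.Urad k) : u ∈ T.data.Urad j := by
  obtain ⟨ys, hys, rfl⟩ := exists_fixed_factor hT hR hu hfix
  obtain ⟨a, y, ha, hy, rfl⟩ := forall₂_split_last hys
  have hpos : ∀ o ∈ (T.roots R).map (T.refl' j), T.Pos' o ∧ o ≠ T.simp' j := fun o ho =>
    ⟨roots_pos hT hR.1 o (List.mem_append_left _ ho), fun e => hnd (e ▸ ho)⟩
  rw [List.prod_append, List.prod_singleton] at hrad ⊢
  have hyk : ∀ k ∈ T.J j, y ∈ D.Urad k := by
    intro k hk
    have h1 : a.prod ∈ D.Urad k := prod_mem_of_forall₂ ha fun o ho => inf_le_left.trans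
      (iSup₂_le fun r hr => Data.X_le_Urad ((hT.pos_orb r).2 (hr ▸ (hpos o ho).1))
        (fun e => (hpos o ho).2 (hr ▸ (hT.mem_J j r).2 (List.mem_map.2 ⟨k, hk, e.symm⟩))))
    simpa using (D.Urad k).mul_mem ((D.Urad k).inv_mem h1) (hrad k hk)
  have hy1 : y = 1 := by
    suffices key : ∀ ks : List κ, (∀ k ∈ ks, k ∈ T.J j) → ∀ z ∈ (⨆ (k : κ) (_ : k ∈ ks), D.X (D.simp k)),
        (∀ k ∈ T.J j, z ∈ D.Urad k) → z = 1 by
      refine key _ (fun _ h => h) y ((show T.Xorb (T.simp' j) ≤ _ from iSup₂_le fun r hr => ?_) hy.1) hyk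
      obtain ⟨k, hk, rfl⟩ := List.mem_map.1 ((hT.mem_J j r).1 hr)
      exact le_iSup₂ (f := fun k (_ : k ∈ T.J j) => D.X (D.simp k)) k hk
    intro ks
    induction ks with
    | nil =>
      intro _ z hz _
      simpa using hz
    | cons k ks ih =>
      intro hks z hz hzr
      by_cases hmem : k ∈ ks
      · refine ih (fun x hx => hks x (List.mem_cons_of_mem _ hx)) z ?_ hzr
        refine (show (⨆ (x : κ) (_ : x ∈ k :: ks), D.X (D.simp x)) ≤ _ from iSup₂_le fun x hx => ?_) hz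
        refine le_iSup₂ (f := fun x (_ : x ∈ ks) => D.X (D.simp x)) x ?_
        rcases List.mem_cons.1 hx with rfl | hx
        exacts [hmem, hx]
      have hc : D.X (D.simp k) ≤ Subgroup.centralizer
          ((⨆ (x : κ) (_ : x ∈ ks), D.X (D.simp x) : Subgroup M) : Set M) := by
        refine Subgroup.le_centralizer_iff.1 (iSup₂_le fun x hx z hz => Subgroup.mem_centralizer_iff.2 ?_)
        intro w hw
        exact hT.comm_J j k (hks k List.mem_cons_self) x (hks x (List.mem_cons_of_mem _ hx))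
          (fun e => hmem (e ▸ hx)) w hw z hz
      have hz' : z ∈ D.X (D.simp k) ⊔ (⨆ (x : κ) (_ : x ∈ ks), D.X (D.simp x)) := by
        refine (show (⨆ (x : κ) (_ : x ∈ k :: ks), D.X (D.simp x)) ≤ _ from iSup₂_le fun x hx => ?_) hz
        rcases List.mem_cons.1 hx with rfl | hx
        exacts [le_sup_left, le_sup_of_le_right (le_iSup₂ (f := fun x (_ : x ∈ ks) => D.X (D.simp x)) x hx)]
      rw [← SetLike.mem_coe, Subgroup.coe_mul_of_left_le_normalizer_right _ _
        (hc.trans (Subgroup.centralizer_le_normalizer _)), Set.mem_mul] at hz'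
      obtain ⟨p, hp, q, hq, rfl⟩ := hz'
      have hq' : q ∈ D.Urad k := (show (⨆ (x : κ) (_ : x ∈ ks), D.X (D.simp x)) ≤ _ from
        iSup₂_le fun x hx => Data.X_le_Urad (hT.base.pos_simp x)
          (fun e => hmem (by rw [← hT.base.simp_inj e]; exact hx))) hq
      have hp' : p ∈ D.Urad k := by
        simpa using (D.Urad k).mul_mem (hzr k (hks k List.mem_cons_self)) ((D.Urad k).inv_mem hq')
      have hp1 : D.nn k * p * (D.nn k)⁻¹ ∈ D.B ⊓ negU D := by
        refine ⟨Data.Urad_le_B k (Data.nn_conj_Urad hT.base hp'), ?_⟩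
        refine le_iSup₂ (f := fun r (_ : ¬ D.Pos r) => D.X r) (D.refl k (D.simp k)) ?_
          (hT.base.conj_X k _ p hp)
        rw [hT.base.refl_simp]
        exact Data.not_pos_opp_simp hT.base k
      rw [hT.B_inf_negU, Subgroup.mem_bot, conj_eq_one_iff] at hp1
      subst hp1
      rw [one_mul] at hzr ⊢
      exact ih (fun x hx => hks x (List.mem_cons_of_mem _ hx)) q hq hzr
  rw [hy1, mul_one]
  exact prod_mem_of_forall₂ ha (fun o ho => Data.X_le_Urad (D := T.data) (hpos o ho).1 (hpos o ho).2)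

end Twist

end Cfsg.Agent.RootBN
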