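/-
The positive orbits of a twist in the order of a reduced word: commutators, ordered products and fixed parts.
-/
import Cfsg.Agent.Lib.RootBN.TwistData
import Cfsg.Agent.Lib.Schur.RootLift

set_option autoImplicit false

namespace Cfsg.Agent.RootBN.Twist

open Cfsg.Agent.Schur.RootLift (V le_V V_empty)
open scoped commutatorElement

variable {M : Type*} [Group M] {ι κ : Type*} {D : Data M ι κ} {ι' κ' : Type*} (T : Twist D ι' κ')

/-- The orbits of a reduced word in a numbering, with the commutators of root elements of two orbits in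
the orbits between. -/
structure ChainData (R : List κ') (pos : ℕ → ι') (n : ℕ) : Prop where
  reduced : T.Reduced R
  roots_eq : T.roots R = (List.range n).map pos
  gen : ∀ a b, a < b → b < n → ∀ r s, T.orb r = pos a → T.orb s = pos b → ∀ y ∈ D.X r, ∀ z ∈ D.X s,
    ⁅y, z⁆ ∈ V (fun c => T.Xorb (pos c)) (a + 1) b

variable {T} {R : List κ'} {pos : ℕ → ι'} {n : ℕ}

/-- Commutators of two orbits. -/
theorem ChainData.comm_o (h : ChainData T R pos n) : ∀ a b, a < b → b < n →
    ∀ x ∈ T.Xorb (pos a), ∀ y ∈ T.Xorb (pos b), ⁅x, y⁆ ∈ V (fun c => T.Xorb (pos c)) (a + 1) b := by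
  suffices key : ∀ d a b, b - a ≤ d → a < b → b < n →
      ∀ x ∈ T.Xorb (pos a), ∀ y ∈ T.Xorb (pos b), ⁅x, y⁆ ∈ V (fun c => T.Xorb (pos c)) (a + 1) b from
    fun a b h1 h2 => key (b - a) a b le_rfl h1 h2
  intro d
  induction d with
  | zero => intro a b h1 h2; omega
  | succ d ih =>
    intro a b hd hab hb
    have nA : ∀ x ∈ T.Xorb (pos a), ∀ w ∈ V (fun c => T.Xorb (pos c)) (a + 1) b,
        x * w * x⁻¹ ∈ V (fun c => T.Xorb (pos c)) (a + 1) b :=
      fun x hx w hw => (Subgroup.mem_normalizer_iff.1 (Schur.RootLift.le_normalizer (fun c => T.Xorb (pos c))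
        (fun c h1 h2 => ih a c (by omega) h1 (by omega)) hx) w).1 hw
    have nB := Schur.RootLift.conj_last (fun c => T.Xorb (pos c)) (a := a + 1) (b := b)
      (fun c h1 h2 => ih c b (by omega) h2 hb)
    set W := V (fun c => T.Xorb (pos c)) (a + 1) b
    have left : ∀ y ∈ T.Xorb (pos b), (∀ r, T.orb r = pos a → ∀ u ∈ D.X r, ⁅u, y⁆ ∈ W) →
        ∀ x ∈ T.Xorb (pos a), ⁅x, y⁆ ∈ W := by
      intro y hy hgen x hx
      let K : Subgroup M :=
        { carrier := {x | x ∈ T.Xorb (pos a) ∧ ⁅x, y⁆ ∈ W}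
          one_mem' := ⟨(T.Xorb (pos a)).one_mem, by rw [commutatorElement_one_left]; exact W.one_mem⟩
          mul_mem' := by
            rintro p q ⟨hp, hp'⟩ ⟨hq, hq'⟩
            refine ⟨(T.Xorb (pos a)).mul_mem hp hq, ?_⟩
            rw [show ⁅p * q, y⁆ = p * ⁅q, y⁆ * p⁻¹ * ⁅p, y⁆ by
              simp only [commutatorElement_def]; group]
            exact W.mul_mem (nA p hp _ hq') hp'
          inv_mem' := by
            rintro p ⟨hp, hp'⟩
            refine ⟨(T.Xorb (pos a)).inv_mem hp, ?_⟩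
            rw [show ⁅p⁻¹, y⁆ = p⁻¹ * ⁅p, y⁆⁻¹ * p⁻¹⁻¹ by simp only [commutatorElement_def]; group]
            exact nA _ ((T.Xorb (pos a)).inv_mem hp) _ (W.inv_mem hp') }
      exact ((show T.Xorb (pos a) ≤ K from iSup₂_le fun r hr z hz =>
        ⟨X_le_Xorb hr hz, hgen r hr z hz⟩) hx).2
    intro x hx y hy
    let K : Subgroup M :=
      { carrier := {y | y ∈ T.Xorb (pos b) ∧ ∀ x ∈ T.Xorb (pos a), ⁅x, y⁆ ∈ W}
        one_mem' := ⟨(T.Xorb (pos b)).one_mem, fun x _ => by rw [commutatorElement_one_right]; exact W.one_mem⟩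
        mul_mem' := by
          rintro p q ⟨hp, hp'⟩ ⟨hq, hq'⟩
          refine ⟨(T.Xorb (pos b)).mul_mem hp hq, fun x hx => ?_⟩
          rw [show ⁅x, p * q⁆ = ⁅x, p⁆ * (p * ⁅x, q⁆ * p⁻¹) by simp only [commutatorElement_def]; group]
          exact W.mul_mem (hp' x hx) (nB p hp _ (hq' x hx))
        inv_mem' := by
          rintro p ⟨hp, hp'⟩
          refine ⟨(T.Xorb (pos b)).inv_mem hp, fun x hx => ?_⟩
          rw [show ⁅x, p⁻¹⁆ = p⁻¹ * ⁅x, p⁆⁻¹ * p⁻¹⁻¹ by simp only [commutatorElement_def]; group]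
          exact nB _ ((T.Xorb (pos b)).inv_mem hp) _ (W.inv_mem (hp' x hx)) }
    exact ((show T.Xorb (pos b) ≤ K from iSup₂_le fun s hs z hz =>
      have hm : z ∈ T.Xorb (pos b) := X_le_Xorb hs hz
      ⟨hm, left _ hm fun r hr u hu => h.gen a b hab hb r s hr hs u hu z hz⟩) hy).2 x hx

/-- An element of an interval is an ordered product. -/
theorem ChainData.exists_fun (h : ChainData T R pos n) : ∀ d a b, b - a = d → b ≤ n →
    ∀ u ∈ V (fun c => T.Xorb (pos c)) a b, ∃ f : ℕ → M,
    (∀ c, f c ∈ T.Xorb (pos c)) ∧ (∀ c, c < a ∨ b ≤ c → f c = 1) ∧ u = ((List.range' a d).map f).prod := by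
  intro d
  induction d with
  | zero =>
    intro a b hd _ u hu
    rw [V_empty _ (by omega), Subgroup.mem_bot] at hu
    exact ⟨fun _ => 1, fun c => Subgroup.one_mem _, fun _ _ => rfl, by simp [hu]⟩
  | succ d ih =>
    intro a b hd hb u hu
    obtain ⟨x, hx, w, hw, rfl⟩ := Schur.RootLift.ordered (fun c => T.Xorb (pos c)) (show a < b by omega)
      (fun c h1 h2 => h.comm_o a c h1 (by omega)) hu
    obtain ⟨f, hf, hf1, rfl⟩ := ih (a + 1) b (by omega) hb w hw
    refine ⟨Function.update f a x, fun c => ?_, fun c hc => ?_, ?_⟩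
    · rcases eq_or_ne c a with rfl | h
      · rwa [Function.update_self]
      · rw [Function.update_of_ne h]; exact hf c
    · rw [Function.update_of_ne (by omega)]; exact hf1 c (by omega)
    · rw [List.range'_succ, List.map_cons, List.prod_cons, Function.update_self]
      congr 2
      refine List.map_congr_left fun c hc => ?_
      rw [Function.update_of_ne]
      have := List.mem_range'_1.1 hc
      omega

variable (hT : T.Axioms)
include hT

/-- An orbit meets the following interval trivially. -/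
theorem ChainData.disjoint_o [Finite ι] (h : ChainData T R pos n) {a b : ℕ} (hab : a < b) (hb : b ≤ n) :
    T.Xorb (pos a) ⊓ V (fun c => T.Xorb (pos c)) (a + 1) b = ⊥ := by
  rw [eq_bot_iff]
  rintro u ⟨h1, h2⟩
  obtain ⟨f, hf, hf1, e⟩ := h.exists_fun _ (a + 1) b rfl hb u h2
  have hsplit : List.range n = List.range' 0 (a + 1) ++ (List.range' (a + 1) (b - (a + 1)) ++
      List.range' b (n - b)) := by
    have e1 : List.range' (a + 1) (n - (a + 1)) =
        List.range' (a + 1) (b - (a + 1)) ++ List.range' b (n - b) := by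
      have e0 := List.range'_append_1 (s := a + 1) (m := b - (a + 1)) (n := n - b)
      rw [show a + 1 + (b - (a + 1)) = b by omega,
        show b - (a + 1) + (n - b) = n - (a + 1) by omega] at e0
      exact e0.symm
    rw [← e1, List.range_eq_range']
    have e0 := List.range'_append_1 (s := 0) (m := a + 1) (n := n - (a + 1))
    rw [show 0 + (a + 1) = a + 1 by omega, show a + 1 + (n - (a + 1)) = n by omega] at e0
    exact e0.symm
  have hone : ∀ (g : ℕ → M) (L : List ℕ), (∀ c ∈ L, g c = 1) → (L.map g).prod = 1 := fun g L h =>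
    List.prod_eq_one fun y hy => by
      obtain ⟨c, hc, rfl⟩ := List.mem_map.1 hy
      exact h c hc
  let g : ℕ → M := fun c => if c = a then u else 1
  have hg : ∀ c, g c ∈ T.Xorb (pos c) := fun c => by
    by_cases h : c = a
    · simp only [g, h, if_true]; exact h1
    · simp only [g, h, if_false]; exact Subgroup.one_mem _
  have e1 : ((List.range n).map f).prod = u := by
    rw [hsplit, List.map_append, List.map_append, List.prod_append, List.prod_append, ← e,
      hone f _ fun c hc => hf1 c (by have := List.mem_range'_1.1 hc; omega),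
      hone f (List.range' b _) fun c hc => hf1 c (by have := List.mem_range'_1.1 hc; omega)]
    simp
  have e2 : ((List.range n).map g).prod = u := by
    rw [hsplit, List.range'_1_concat, List.map_append, List.map_append, List.map_append,
      List.prod_append, List.prod_append, List.prod_append,
      hone g _ fun c hc => if_neg (by have := List.mem_range'_1.1 hc; omega),
      hone g (List.range' (a + 1) _) fun c hc => if_neg (by have := List.mem_range'_1.1 hc; omega),
      hone g (List.range' b _) fun c hc => if_neg (by have := List.mem_range'_1.1 hc; omega)]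
    simp [g]
  have hforall : ∀ k : ℕ → M, (∀ c, k c ∈ T.Xorb (pos c)) →
      List.Forall₂ (fun o y => y ∈ T.Xorb o) (T.roots R) ((List.range n).map k) := by
    intro k hk
    rw [h.roots_eq, List.forall₂_map_left_iff, List.forall₂_map_right_iff, List.forall₂_same]
    exact fun c _ => hk c
  have := factor_unique hT h.reduced (hforall f hf) (hforall g hg) (e1.trans e2.symm)
  have h3 := (List.map_inj_left.1 this) a (List.mem_range.2 (by omega))
  simp only [g, if_true] at h3
  rw [hf1 a (by omega)] at h3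
  exact Subgroup.mem_bot.2 h3.symm

theorem ChainData.disjoint' [Finite ι] (h : ChainData T R pos n) {a b : ℕ} (hab : a < b) (hb : b ≤ n) :
    T.X' (pos a) ⊓ V (fun c => T.X' (pos c)) (a + 1) b = ⊥ :=
  eq_bot_iff.2 ((inf_le_inf inf_le_left (iSup₂_mono fun c _ => inf_le_left)).trans
    (h.disjoint_o hT hab hb).le)

theorem ChainData.fix_mem [Finite ι] (h : ChainData T R pos n) : ∀ d a b, b - a = d → b ≤ n →
    ∀ u ∈ V (fun c => T.Xorb (pos c)) a b, T.σ u = u → u ∈ V (fun c => T.X' (pos c)) a b := by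
  have theta : ∀ a b, ∀ u ∈ V (fun c => T.Xorb (pos c)) a b, T.σ u ∈ V (fun c => T.Xorb (pos c)) a b :=
    fun a b u hu => (show V (fun c => T.Xorb (pos c)) a b ≤
        (V (fun c => T.Xorb (pos c)) a b).comap T.σ.toMonoidHom from iSup₂_le fun c hc _ hz =>
      le_V (fun c => T.Xorb (pos c)) hc.1 hc.2 (σ_Xorb hT hz)) hu
  intro d
  induction d with
  | zero =>
    intro a b hd _ u hu _
    rw [V_empty _ (by omega), Subgroup.mem_bot] at hu
    exact hu ▸ Subgroup.one_mem _
  | succ d ih =>
    intro a b hd hb u hu hfix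
    obtain ⟨x, hx, w, hw, rfl⟩ := Schur.RootLift.ordered (fun c => T.Xorb (pos c)) (show a < b by omega)
      (fun c h1 h2 => h.comm_o a c h1 (by omega)) hu
    rw [map_mul] at hfix
    have h1 : x⁻¹ * T.σ x ∈ T.Xorb (pos a) ⊓ V (fun c => T.Xorb (pos c)) (a + 1) b := by
      refine ⟨(T.Xorb (pos a)).mul_mem ((T.Xorb (pos a)).inv_mem hx) (σ_Xorb hT hx), ?_⟩
      rw [show x⁻¹ * T.σ x = w * (T.σ w)⁻¹ by
        rw [eq_mul_inv_iff_mul_eq, mul_assoc, hfix, inv_mul_cancel_left]]
      exact Subgroup.mul_mem _ hw (Subgroup.inv_mem _ (theta _ _ w hw))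
    rw [h.disjoint_o hT (by omega) hb, Subgroup.mem_bot, inv_mul_eq_one] at h1
    rw [← h1, mul_right_inj] at hfix
    refine Subgroup.mul_mem _ (le_V (fun c => T.X' (pos c)) le_rfl (by omega) ⟨hx, mem_Fix.2 h1.symm⟩) ?_
    exact Schur.RootLift.V_mono (fun c => T.X' (pos c)) (by omega) le_rfl (ih (a + 1) b (by omega) hb w hw hfix)

/-- Commutators of the fixed parts of two orbits. -/
theorem ChainData.comm' [Finite ι] (h : ChainData T R pos n) : ∀ a b, a < b → b < n →
    ∀ x ∈ T.X' (pos a), ∀ y ∈ T.X' (pos b), ⁅x, y⁆ ∈ V (fun c => T.X' (pos c)) (a + 1) b :=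
  fun a b hab hb x hx y hy => h.fix_mem hT _ _ _ rfl hb.le _
    (h.comm_o a b hab hb x hx.1 y hy.1)
    (by rw [map_commutatorElement, mem_Fix.1 hx.2, mem_Fix.1 hy.2])

end Cfsg.Agent.RootBN.Twist
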