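import Cfsg.Agent.Lib.RootBN.Poincare

/-!
# Weighted length functions

The order formula when the simple root subgroups have orders `q ^ c i`, and a checkable level certificate
for the weighted Poincaré sum.
-/

set_option autoImplicit false

namespace Cfsg.Agent.RootBN

namespace Data

variable {M : Type*} [Group M] {ι : Type*} {κ : Type*} {D : Data M ι κ}

/-- `w` is the length weighted by `c`. -/
structure IsWeight (D : Data M ι κ) (w : Equiv.Perm ι → ℕ) (c : κ → ℕ) : Prop where
  one : w 1 = 0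
  step : ∀ (i : κ) (l : List κ), D.Pos ((D.wl l)⁻¹ (D.simp i)) → w (D.refl i * D.wl l) = w (D.wl l) + c i

variable (ax : D.Axioms) {w : Equiv.Perm ι → ℕ} {c : κ → ℕ} (hw : IsWeight D w c)
include ax hw

theorem card_cosets_weight [Finite ι] {q : ℕ} (hq : ∀ i, Nat.card (D.X (D.simp i)) = q ^ c i) (l : List κ) :
    Nat.card (D.cosets (D.wl l)) = q ^ w (D.wl l) := by
  suffices key : ∀ k, ∀ l : List κ, D.inv (D.wl l) = k → Nat.card (D.cosets (D.wl l)) = q ^ w (D.wl l) from
    key _ l rfl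
  intro k
  induction k with
  | zero => intro l h; rw [inv_eq_zero ax l h, card_cosets_one ax, hw.one, pow_zero]
  | succ k ih =>
    intro l h
    have hne : D.wl l ≠ 1 := fun he => by rw [he, inv_one] at h; omega
    obtain ⟨i, hi⟩ := exists_descent ax hne
    have h1 := inv_refl_mul_neg ax l hi
    have hp : D.Pos ((D.wl (i :: l))⁻¹ (D.simp i)) := by
      rw [wl_cons, mul_inv_rev, Equiv.Perm.mul_apply, refl_inv ax, ax.refl_simp, ← wl_reverse ax,
        wl_opp ax, wl_reverse ax, ax.pos_opp]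
      exact hi
    have h2 := card_cosets_step ax (i :: l) hp
    have h3 := hw.step i (i :: l) hp
    rw [wl_cons, refl_mul_refl_mul ax] at h2 h3
    rw [h2, hq, ← wl_cons (D := D), ih (i :: l) (by rw [wl_cons]; omega), h3, ← pow_add, wl_cons, add_comm]

theorem card_grp_weight [Finite ι] [Finite M] {q : ℕ} (hq : ∀ i, Nat.card (D.X (D.simp i)) = q ^ c i) :
    Nat.card D.grp = Nat.card D.B * ∑ σ ∈ D.weyl, q ^ w σ := by
  classical
  have hset : (QuotientGroup.mk '' (D.grp : Set M) : Set (M ⧸ D.B)) = ⋃ σ ∈ D.weyl, D.cosets σ := by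
    ext x
    simp only [Set.mem_image, SetLike.mem_coe, Set.mem_iUnion]
    constructor
    · rintro ⟨g, hg, rfl⟩
      obtain ⟨l, hl⟩ := exists_cell ax hg
      exact ⟨_, mem_weyl.2 ⟨l, rfl⟩, mem_cosets.2 hl⟩
    · rintro ⟨σ, hσ, g, hg, rfl⟩
      obtain ⟨l, rfl⟩ := mem_weyl.1 hσ
      exact ⟨g, cell_subset_grp ax l hg, rfl⟩
  have hdisj : (D.weyl : Set (Equiv.Perm ι)).PairwiseDisjoint D.cosets := by
    intro σ hσ τ hτ hne
    rw [Function.onFun, Set.disjoint_left]
    rintro x hx hx'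
    obtain ⟨g, rfl⟩ := QuotientGroup.mk_surjective x
    obtain ⟨l, rfl⟩ := mem_weyl.1 hσ
    obtain ⟨l', rfl⟩ := mem_weyl.1 hτ
    exact hne (cell_disjoint ax (mem_cosets.1 hx) (mem_cosets.1 hx'))
  have hcount : Nat.card (QuotientGroup.mk '' (D.grp : Set M) : Set (M ⧸ D.B)) =
      ∑ σ ∈ D.weyl, q ^ w σ := by
    have := Finset.card_biUnion (s := D.weyl) (t := fun σ => (Set.toFinite (D.cosets σ)).toFinset)
      (fun σ hσ τ hτ hne => by
        simpa [Finset.disjoint_left, Set.disjoint_left] using hdisj hσ hτ hne)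
    rw [hset, Nat.card_eq_card_finite_toFinset (Set.toFinite _)]
    rw [show (Set.toFinite (⋃ σ ∈ D.weyl, D.cosets σ)).toFinset =
      D.weyl.biUnion fun σ => (Set.toFinite (D.cosets σ)).toFinset by ext; simp, this]
    refine Finset.sum_congr rfl fun σ hσ => ?_
    obtain ⟨l, rfl⟩ := mem_weyl.1 hσ
    rw [← Nat.card_eq_card_finite_toFinset, card_cosets_weight ax hw hq l]
  rw [← hcount, ← QuotientGroup.card_preimage_mk]
  refine Nat.card_congr (Equiv.setCongr ?_)
  ext g
  simp only [Set.mem_preimage, Set.mem_image, SetLike.mem_coe]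
  refine ⟨fun hg => ⟨g, hg, rfl⟩, ?_⟩
  rintro ⟨g', hg', e⟩
  simpa using D.grp.mul_mem hg' (B_le_grp ax (QuotientGroup.eq.1 e))

omit hw in
theorem inv_append_le [Finite ι] (d v : List κ) : D.inv (D.wl (d ++ v)) ≤ d.length + D.inv (D.wl v) := by
  induction d with
  | nil => simp
  | cons a d ih =>
    rw [List.cons_append, wl_cons, List.length_cons]
    by_cases hp : D.Pos ((D.wl (d ++ v))⁻¹ (D.simp a))
    · rw [inv_refl_mul ax _ hp]; omega
    · have := inv_refl_mul_neg ax _ hp; omega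

theorem weight_append [Finite ι] : ∀ (d v : List κ), D.inv (D.wl (d ++ v)) = d.length + D.inv (D.wl v) →
    w (D.wl (d ++ v)) = (d.map c).sum + w (D.wl v)
  | [], v, _ => by simp
  | a :: d, v, h => by
    have hle := inv_append_le ax d v
    rw [List.cons_append, wl_cons, List.length_cons] at h
    have hp : D.Pos ((D.wl (d ++ v))⁻¹ (D.simp a)) := by
      by_contra hp
      have := inv_refl_mul_neg ax _ hp
      omega
    rw [inv_refl_mul ax _ hp] at h
    rw [List.cons_append, wl_cons, hw.step a _ hp, weight_append d v (by omega), List.map_cons, List.sum_cons]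
    omega

variable {J J' : List κ} {Φ : ι → Prop} {reps : List (List κ)}

/-- One level, weighted. -/
theorem sum_weylJ_step_weight [Finite ι] [DecidableEq κ]
    (hΦ : ∀ j ∈ J, Φ (D.simp j))
    (hΦr : ∀ j ∈ J, ∀ r, Φ (D.refl j r) ↔ Φ r)
    (hΦo : ∀ r, Φ (D.opp r) ↔ Φ r)
    (hmem : ∀ d ∈ reps, ∀ x ∈ d, x ∈ J')
    (hJJ : ∀ j ∈ J, j ∈ J')
    (hnil : [] ∈ reps)
    (hclosed : ∀ a ∈ J', ∀ d ∈ reps, ∃ d' ∈ reps, ∃ v : List κ, (∀ x ∈ v, x ∈ J) ∧
      ∀ i, D.wl (a :: d) (D.simp i) = D.wl (d' ++ v) (D.simp i))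
    (hmin : ∀ d ∈ reps, ∀ r, D.Pos r → Φ r → D.Pos (D.wl d r))
    (hasc : ∀ d ∈ reps, Ascending D d)
    (hdist : (reps.map fun d => fun i => D.wl d (D.simp i)).Nodup)
    (q : ℕ) :
    ∑ σ ∈ D.weylJ J', q ^ w σ =
      (reps.map fun d => q ^ (d.map c).sum).sum * ∑ σ ∈ D.weylJ J, q ^ w σ := by
  classical
  -- words in `J` keep positivity outside `Φ`
  have hout : ∀ v : List κ, (∀ x ∈ v, x ∈ J) → ∀ r, (Φ (D.wl v r) ↔ Φ r) ∧
      (¬ Φ r → (D.Pos (D.wl v r) ↔ D.Pos r)) := by
    intro v hv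
    induction v with
    | nil => intro r; simp
    | cons j v ih =>
      intro r
      have hj := hv j List.mem_cons_self
      obtain ⟨h1, h2⟩ := ih (fun x hx => hv x (List.mem_cons_of_mem _ hx)) r
      refine ⟨by rw [wl_cons, Equiv.Perm.mul_apply, hΦr j hj, h1], fun hr => ?_⟩
      rw [wl_cons, Equiv.Perm.mul_apply, ← h2 hr]
      set s := D.wl v r with hs
      have hsΦ : ¬ Φ s := fun h => hr (h1.1 h)
      constructor
      · intro hp
        have := ax.refl_pos j _ hp (fun e => hsΦ ((hΦr j hj s).1 (e ▸ hΦ j hj)))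
        rwa [ax.refl_refl] at this
      · intro hp
        exact ax.refl_pos j _ hp (fun e => hsΦ (e ▸ hΦ j hj))
  -- lengths add
  have hadd : ∀ d ∈ reps, ∀ v : List κ, (∀ x ∈ v, x ∈ J) →
      D.inv (D.wl (d ++ v)) = d.length + D.inv (D.wl v) := by
    intro d hd v hv
    rw [← inv_eq_length ax (hasc d hd), add_comm]
    have hset : {r | D.Pos r ∧ ¬ D.Pos (D.wl (d ++ v) r)} =
        {r | D.Pos r ∧ ¬ D.Pos (D.wl v r)} ∪ (⇑(D.wl v)⁻¹) '' {r | D.Pos r ∧ ¬ D.Pos (D.wl d r)} := by
      ext r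
      simp only [Set.mem_union, Set.mem_setOf_eq, Set.mem_image, wl_append, Equiv.Perm.mul_apply]
      constructor
      · rintro ⟨hr, hn⟩
        by_cases hp : D.Pos (D.wl v r)
        · exact Or.inr ⟨D.wl v r, ⟨hp, hn⟩, by simp⟩
        · exact Or.inl ⟨hr, hp⟩
      · rintro (⟨hr, hn⟩ | ⟨s, ⟨hs, hn⟩, rfl⟩)
        · refine ⟨hr, ?_⟩
          have hΦr' : Φ r := by
            by_contra h
            exact hn (((hout v hv r).2 h).2 hr)
          have := hmin d hd (D.opp (D.wl v r)) ((ax.pos_opp _).2 hn)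
            ((hΦo _).2 ((hout v hv r).1.2 hΦr'))
          rwa [wl_opp ax, ax.pos_opp] at this
        · have hsΦ : ¬ Φ s := fun h => hn (hmin d hd s hs h)
          refine ⟨?_, by simpa using hn⟩
          have h' : ¬ Φ ((D.wl v)⁻¹ s) := fun h => hsΦ (by simpa using (hout v hv _).1.2 h)
          exact ((hout v hv _).2 h').1 (by simpa using hs)
    rw [Data.inv, hset, Set.ncard_union_eq ?_ (Set.toFinite _) (Set.toFinite _),
      Set.ncard_image_of_injective _ (Equiv.injective _)]
    · rfl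
    · rw [Set.disjoint_left]
      rintro r ⟨-, hn⟩ ⟨s, ⟨hs, -⟩, rfl⟩
      exact hn (by simpa using hs)
  have key : ∀ d ∈ reps, ∀ d' ∈ reps, ∀ v : List κ, (∀ x ∈ v, x ∈ J) →
      D.wl d = D.wl (d' ++ v) → d = d' := by
    intro d hd d' hd' v hv e
    have e' : D.wl d' = D.wl (d ++ v.reverse) := by
      rw [wl_append, e, wl_append, wl_reverse ax, mul_inv_cancel_right]
    have a1 := hadd d' hd' v hv
    have a2 := hadd d hd v.reverse (fun x hx => hv x (List.mem_reverse.1 hx))
    rw [← e, inv_eq_length ax (hasc d hd)] at a1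
    rw [← e', inv_eq_length ax (hasc d' hd')] at a2
    have hv1 := inv_eq_zero ax v (by omega)
    rw [wl_append, hv1, mul_one] at e
    exact List.inj_on_of_nodup_map hdist hd hd' (funext fun i => by rw [e])
  have hnd : reps.Nodup := List.Nodup.of_map _ hdist
  rw [← List.sum_toFinset _ hnd, Finset.sum_mul_sum, ← Finset.sum_product']
  refine (Finset.sum_bij (fun p _ => D.wl p.1 * p.2) ?_ ?_ ?_ ?_).symm
  · rintro ⟨d, σ⟩ hp
    rw [Finset.mem_product, List.mem_toFinset] at hp
    obtain ⟨v, hv, rfl⟩ := mem_weylJ.1 hp.2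
    refine mem_weylJ.2 ⟨d ++ v, ?_, wl_append d v⟩
    intro x hx
    rcases List.mem_append.1 hx with h | h
    exacts [hmem d hp.1 x h, hJJ x (hv x h)]
  · rintro ⟨d, σ⟩ hp ⟨d', σ'⟩ hp' e
    rw [Finset.mem_product, List.mem_toFinset] at hp hp'
    obtain ⟨v, hv, rfl⟩ := mem_weylJ.1 hp.2
    obtain ⟨v', hv', rfl⟩ := mem_weylJ.1 hp'.2
    simp only at e
    have e1 : D.wl d = D.wl (d' ++ (v' ++ v.reverse)) := by
      rw [wl_append, wl_append, wl_reverse ax, ← mul_assoc, ← e, mul_inv_cancel_right]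
    have : d = d' := key d hp.1 d' hp'.1 _ (fun x hx => by
      rcases List.mem_append.1 hx with h | h
      exacts [hv' x h, hv x (List.mem_reverse.1 h)]) e1
    subst this
    rw [mul_left_cancel e]
  · intro σ hσ
    obtain ⟨l, hl, rfl⟩ := mem_weylJ.1 hσ
    suffices ∃ d ∈ reps, ∃ v : List κ, (∀ x ∈ v, x ∈ J) ∧ D.wl l = D.wl d * D.wl v by
      obtain ⟨d, hd, v, hv, e⟩ := this
      exact ⟨(d, D.wl v), Finset.mem_product.2 ⟨List.mem_toFinset.2 hd, mem_weylJ.2 ⟨v, hv, rfl⟩⟩, e.symm⟩
    clear hσ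
    induction l with
    | nil => exact ⟨[], hnil, [], by simp, by simp⟩
    | cons a l ih =>
      obtain ⟨d, hd, v, hv, e⟩ := ih (fun x hx => hl x (List.mem_cons_of_mem _ hx))
      obtain ⟨d', hd', v', hv', e'⟩ := hclosed a (hl a List.mem_cons_self) d hd
      refine ⟨d', hd', v' ++ v, ?_, ?_⟩
      · intro x hx
        rcases List.mem_append.1 hx with h | h
        exacts [hv' x h, hv x h]
      · have := wl_ext ax e'
        rw [wl_cons, wl_append] at this
        rw [wl_cons, e, ← mul_assoc, this, wl_append, mul_assoc]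
  · rintro ⟨d, σ⟩ hp
    rw [Finset.mem_product, List.mem_toFinset] at hp
    obtain ⟨v, hv, rfl⟩ := mem_weylJ.1 hp.2
    rw [← pow_add, ← wl_append, weight_append ax hw d v (hadd d hp.1 v hv)]

end Data

/-- One level of a certificate with letters in `Fin l`. -/
structure WLevel (n l : ℕ) where
  /-- representatives -/
  reps : List (List (Fin l))
  /-- for each representative and letter: index of the representative and the remaining word -/
  edges : List (List (ℕ × List (Fin l)))
  /-- the roots of the previous parabolic system -/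
  phi : List (Fin n)

namespace WLevel

variable {n l : ℕ} (refl : Fin l → Fin n → Fin n) (simp : Fin l → Fin n) (opp : Fin n → Fin n)
  (pos : Fin n → Bool)

/-- Evaluation of a word on a root. -/
def ev (d : List (Fin l)) (r : Fin n) : Fin n := d.foldr refl r

/-- Every step of a word goes up. -/
def asc : List (Fin l) → Bool
  | [] => true
  | a :: d => pos (ev refl d.reverse (simp a)) && asc d

/-- The conditions on a level. -/
def Ok (k : ℕ) (L : WLevel n l) : Prop :=
  (∀ j : Fin l, j.val < k → simp j ∈ L.phi ∧ ∀ r, refl j r ∈ L.phi ↔ r ∈ L.phi) ∧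
  (∀ r, opp r ∈ L.phi ↔ r ∈ L.phi) ∧
  [] ∈ L.reps ∧
  (∀ d ∈ L.reps, ∀ x ∈ d, x.val < k + 1) ∧
  (∀ d ∈ L.reps, asc refl simp pos d = true) ∧
  (∀ d ∈ L.reps, ∀ r ∈ L.phi, pos r = true → pos (ev refl d r) = true) ∧
  (L.reps.map fun d => (List.finRange l).map fun i => ev refl d (simp i)).Nodup ∧
  ∀ di < L.reps.length, ∀ a : Fin l, a.val < k + 1 →
    ((L.edges.getD di []).getD a.val (0, [])).1 < L.reps.length ∧
    (∀ x ∈ ((L.edges.getD di []).getD a.val (0, [])).2, x.val < k) ∧
    ∀ i, ev refl (a :: L.reps.getD di []) (simp i) =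
      ev refl (L.reps.getD ((L.edges.getD di []).getD a.val (0, [])).1 [])
        (ev refl ((L.edges.getD di []).getD a.val (0, [])).2 (simp i))

set_option synthInstance.maxSize 1024 in
instance decidableOk (k : ℕ) (L : WLevel n l) : Decidable (Ok refl simp opp pos k L) :=
  inferInstanceAs (Decidable (_ ∧ _))

/-- The conditions on all levels. -/
def AllOk : ℕ → List (WLevel n l) → Prop
  | _, [] => True
  | k, L :: Ls => Ok refl simp opp pos k L ∧ AllOk (k + 1) Ls

instance decidableAllOk : (k : ℕ) → (Ls : List (WLevel n l)) → Decidable (AllOk refl simp opp pos k Ls)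
  | _, [] => isTrue trivial
  | k, _ :: Ls => @instDecidableAnd _ _ _ (decidableAllOk (k + 1) Ls)

/-- Contribution of the levels. -/
def poly (c : Fin l → ℕ) (q : ℕ) : List (WLevel n l) → ℕ
  | [] => 1
  | L :: Ls => poly c q Ls * (L.reps.map fun d => q ^ (d.map c).sum).sum

end WLevel

namespace Data

variable {M : Type*} [Group M] {n l : ℕ} {D : Data M (Fin n) (Fin l)}
  {refl : Fin l → Fin n → Fin n} {simp : Fin l → Fin n} {opp : Fin n → Fin n} {pos : Fin n → Bool}
  (ax : D.Axioms) {w : Equiv.Perm (Fin n) → ℕ} {c : Fin l → ℕ} (hw : IsWeight D w c)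
  (hrefl : ∀ i r, D.refl i r = refl i r) (hsimp : ∀ i, D.simp i = simp i) (hopp : ∀ r, D.opp r = opp r)
  (hpos : ∀ r, D.Pos r ↔ pos r = true)

include hrefl in
theorem wl_eq_ev (d : List (Fin l)) (r : Fin n) : D.wl d r = WLevel.ev refl d r := by
  induction d with
  | nil => rfl
  | cons a d ih => rw [wl_cons, Equiv.Perm.mul_apply, ih, hrefl]; rfl

include hrefl hsimp hpos in
theorem ascending_of_asc : ∀ d : List (Fin l), WLevel.asc refl simp pos d = true → Ascending D d
  | [], _ => trivial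
  | a :: d, h => by
    simp only [WLevel.asc, Bool.and_eq_true] at h
    exact ⟨by rw [hpos, wl_eq_ev hrefl, hsimp]; exact h.1, ascending_of_asc d h.2⟩

include ax hw hrefl hsimp hopp hpos

theorem sum_weylJ_wlevel {k : ℕ} {L : WLevel n l} (h : WLevel.Ok refl simp opp pos k L) (q : ℕ) :
    ∑ σ ∈ D.weylJ ((List.finRange l).filter fun i => decide (i.val < k + 1)), q ^ w σ =
      (L.reps.map fun d => q ^ (d.map c).sum).sum *
        ∑ σ ∈ D.weylJ ((List.finRange l).filter fun i => decide (i.val < k)), q ^ w σ := by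
  obtain ⟨hj, ho, hnil, hlet, hasc, hmin, hnd, hedge⟩ := h
  refine sum_weylJ_step_weight ax hw (Φ := fun r => r ∈ L.phi) ?_ ?_ ?_ ?_ ?_ hnil ?_ ?_ ?_ ?_ q
  · intro j hj'
    rw [hsimp]
    exact (hj j (by simpa using hj')).1
  · intro j hj' r
    rw [hrefl]
    exact (hj j (by simpa using hj')).2 r
  · intro r
    rw [hopp]
    exact ho r
  · intro d hd x hx
    simpa using hlet d hd x hx
  · intro j hj'
    have : j.val < k := by simpa using hj'
    simpa using Nat.lt_succ_of_lt this
  · intro a ha d hd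
    obtain ⟨di, hdi, e⟩ := List.getElem_of_mem hd
    obtain ⟨h1, h2, h3⟩ := hedge di hdi a (by simpa using ha)
    refine ⟨L.reps.getD ((L.edges.getD di []).getD a.val (0, [])).1 [], ?_,
      ((L.edges.getD di []).getD a.val (0, [])).2, fun x hx => by simpa using h2 x hx, fun i => ?_⟩
    · rw [List.getD_eq_getElem (d := []) (hn := h1)]
      exact List.getElem_mem _
    · rw [wl_append, Equiv.Perm.mul_apply, hsimp, wl_eq_ev hrefl, wl_eq_ev hrefl, wl_eq_ev hrefl, ← h3 i,
        List.getD_eq_getElem (d := []) (hn := hdi), e]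
  · intro d hd r hr hΦ
    rw [hpos] at hr ⊢
    rw [wl_eq_ev hrefl]
    exact hmin d hd r hΦ hr
  · exact fun d hd => ascending_of_asc hrefl hsimp hpos d (hasc d hd)
  · rw [List.nodup_map_iff_inj_on (List.Nodup.of_map _ hnd)]
    intro d hd d' hd' e
    refine List.inj_on_of_nodup_map hnd hd hd' (List.map_congr_left fun i _ => ?_)
    rw [← wl_eq_ev hrefl, ← wl_eq_ev hrefl, ← hsimp]
    exact congrFun e i

theorem sum_weylJ_wlevels (q : ℕ) : ∀ (Ls : List (WLevel n l)) (k : ℕ), k + Ls.length = l →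
    WLevel.AllOk refl simp opp pos k Ls →
    ∑ σ ∈ D.weylJ ((List.finRange l).filter fun i => decide (i.val < l)), q ^ w σ =
      WLevel.poly c q Ls * ∑ σ ∈ D.weylJ ((List.finRange l).filter fun i => decide (i.val < k)), q ^ w σ
  | [], k, hk, _ => by
    simp only [List.length_nil, add_zero] at hk
    subst hk
    simp [WLevel.poly]
  | L :: Ls, k, hk, h => by
    simp only [List.length_cons] at hk
    rw [sum_weylJ_wlevels q Ls (k + 1) (by omega) h.2,
      sum_weylJ_wlevel ax hw hrefl hsimp hopp hpos h.1 q, WLevel.poly, mul_assoc]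

/-- The weighted Poincaré sum from a checked certificate. -/
theorem sum_weyl_of_wlevels (Ls : List (WLevel n l)) (hLs : Ls.length = l)
    (h : WLevel.AllOk refl simp opp pos 0 Ls) (q : ℕ) :
    ∑ σ ∈ D.weyl, q ^ w σ = WLevel.poly c q Ls := by
  rw [weyl_eq_weylJ (J := (List.finRange l).filter fun i => decide (i.val < l)) (fun x => by simp),
    sum_weylJ_wlevels ax hw hrefl hsimp hopp hpos q Ls 0 (by omega) h]
  have hnil : ((List.finRange l).filter fun i => decide (i.val < 0)) = [] := by simp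
  have hone : D.weylJ [] = {1} := by
    ext σ
    rw [mem_weylJ, Finset.mem_singleton]
    refine ⟨?_, fun h => ⟨[], by simp, by simp [h]⟩⟩
    rintro ⟨v, hv, rfl⟩
    cases v with
    | nil => simp
    | cons a v => exact absurd (hv a List.mem_cons_self) List.not_mem_nil
  rw [hnil, hone, Finset.sum_singleton, hw.one, pow_zero, mul_one]

end Data

end Cfsg.Agent.RootBN
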