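import Cfsg.Agent.Lib.RootBN.TwistData
import Cfsg.Agent.Lib.BNPair.Coxeter

/-!
# `N/H` of a group with root subgroups is the Coxeter group
-/

set_option autoImplicit false

namespace Cfsg.Agent.RootBN

namespace Data

variable {M : Type*} [Group M] {ι : Type*} {κ : Type*} {D : Data M ι κ}

theorem exists_weyl_hom (ax : D.Axioms) {n : ℕ} (Mc : CoxeterMatrix (Fin n)) (eκ : Fin n ≃ κ)
    (hM : ∀ i j, orderOf (D.refl (eκ i) * D.refl (eκ j)) = Mc i j) :
    ∃ φ : ↥D.N →* Mc.Group, Function.Surjective φ ∧ φ.ker = D.H.subgroupOf D.N := by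
  set P := bnPair ax with hP
  let f : Fin n → P.S := fun i => ⟨⟨D.nn (eκ i), ax.nn_mem (eκ i)⟩, ⟨eκ i, rfl⟩⟩
  have hf' : Function.Bijective f := by
    constructor
    · intro i j e
      have e' : D.nn (eκ i) = D.nn (eκ j) := congrArg (fun s : P.S => ((s : D.grp) : M)) e
      have h' := acts_nn ax (eκ i)
      rw [e'] at h'
      exact eκ.injective (refl_injective ax (acts_unique ax h' (acts_nn ax (eκ j))))
    · rintro ⟨g, i, hi⟩
      exact ⟨eκ.symm i, Subtype.ext (Subtype.ext (by simp [f, hi]))⟩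
  let e : Fin n ≃ P.S := Equiv.ofBijective f hf'
  have hord : ∀ i j : Fin n, orderOf (BN.refl P (f i) * BN.refl P (f j)) = Mc i j := by
    intro i j
    rw [← hM i j]
    refine orderOf_eq_orderOf_iff.2 fun k => ?_
    have hact : ∀ k : ℕ, D.Acts ((D.nn (eκ i) * D.nn (eκ j)) ^ k) ((D.refl (eκ i) * D.refl (eκ j)) ^ k) := by
      intro k
      induction k with
      | zero => simpa using acts_one (D := D)
      | succ k ih => rw [pow_succ, pow_succ]; exact ih.mul ((acts_nn ax (eκ i)).mul (acts_nn ax (eκ j)))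
    have hmemN : (D.nn (eκ i) * D.nn (eκ j)) ^ k ∈ D.N :=
      Subgroup.pow_mem _ (Subgroup.mul_mem _ (nn_mem_N _) (nn_mem_N _)) k
    simp only [BN.refl, ← QuotientGroup.mk_mul, ← QuotientGroup.mk_pow]
    rw [BN.mk_eq_one]
    show _ ∈ D.B.subgroupOf D.grp ↔ _
    rw [Subgroup.mem_subgroupOf]
    simp only [Subgroup.coe_pow, Subgroup.coe_mul, f]
    constructor
    · intro h
      exact acts_unique ax (hact k) (acts_H ax ((N_inf_B ax).le ⟨hmemN, h⟩))
    · intro h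
      refine H_le_B (mem_H_of_pos_preserving ax hmemN (hact k) fun r hr => ?_)
      rw [h]
      exact hr
  have hMeq : Mc = (BN.coxMat P).reindex e.symm :=
    CoxeterMatrix.ext (Matrix.ext fun i j => by
      rw [CoxeterMatrix.reindex_apply]
      simp only [Equiv.symm_symm]
      exact (hord i j).symm)
  subst hMeq
  let cs := (BN.coxSystem P).reindex e.symm
  let emb : D.N →* P.N :=
    { toFun := fun g => ⟨⟨(g : M), N_le_grp ax g.2⟩, Subgroup.mem_subgroupOf.2 g.2⟩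
      map_one' := rfl
      map_mul' := fun _ _ => rfl }
  let ψ : D.N →* BN.Weyl P := (QuotientGroup.mk' _).comp emb
  refine ⟨cs.mulEquiv.toMonoidHom.comp ψ, ?_, ?_⟩
  · refine cs.mulEquiv.surjective.comp ((QuotientGroup.mk'_surjective _).comp ?_)
    rintro ⟨⟨g, hg⟩, hg'⟩
    exact ⟨⟨g, Subgroup.mem_subgroupOf.1 hg'⟩, rfl⟩
  · ext g
    rw [MonoidHom.mem_ker, Subgroup.mem_subgroupOf]
    show cs.mulEquiv (ψ g) = 1 ↔ _
    rw [MulEquiv.map_eq_one_iff]
    show (QuotientGroup.mk (emb g) : BN.Weyl P) = 1 ↔ _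
    rw [BN.mk_eq_one]
    show _ ∈ D.B.subgroupOf D.grp ↔ _
    rw [Subgroup.mem_subgroupOf, ← N_inf_B ax]
    exact ⟨fun h => ⟨g.2, h⟩, fun h => h.2⟩

end Data

/-- `σ τ` has order exactly `m`. -/
def PairOrder {n : ℕ} (f g : Fin n → Fin n) (m : ℕ) : Prop :=
  0 < m ∧ (∀ o, (fun x => f (g x))^[m] o = o) ∧
    ∀ k : Fin m, k.val ≠ 0 → ∃ o, (fun x => f (g x))^[k.val] o ≠ o

instance decidablePairOrder {n : ℕ} (f g : Fin n → Fin n) (m : ℕ) : Decidable (PairOrder f g m) :=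
  inferInstanceAs (Decidable (_ ∧ _))

theorem orderOf_of_pairOrder {n : ℕ} {σ τ : Equiv.Perm (Fin n)} {f g : Fin n → Fin n} {m : ℕ}
    (hσ : ∀ o, σ o = f o) (hτ : ∀ o, τ o = g o) (h : PairOrder f g m) : orderOf (σ * τ) = m := by
  have e : ∀ k o, ((σ * τ) ^ k) o = (fun x => f (g x))^[k] o := by
    intro k o
    rw [Equiv.Perm.coe_pow, show (⇑(σ * τ) : Fin n → Fin n) = fun x => f (g x) from
      funext fun x => by rw [Equiv.Perm.mul_apply, hτ, hσ]]
  rw [orderOf_eq_iff h.1]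
  refine ⟨Equiv.ext fun o => by rw [e, h.2.1, Equiv.Perm.one_apply], fun k hk hk0 he => ?_⟩
  obtain ⟨o, ho⟩ := h.2.2 ⟨k, hk⟩ (by show k ≠ 0; omega)
  exact ho (by rw [← e, he, Equiv.Perm.one_apply])

namespace Twist

variable {M : Type*} [Group M] {ι : Type*} {κ : Type*} {ι' : Type*} {κ' : Type*}
variable {D : Data M ι κ} {T : Twist D ι' κ'}

theorem exists_weyl_hom (hT : T.Axioms) [Finite ι] [Finite ι'] {n : ℕ} (Mc : CoxeterMatrix (Fin n))
    (eκ : Fin n ≃ κ') (hM : ∀ i j, orderOf (T.refl' (eκ i) * T.refl' (eκ j)) = Mc i j) :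
    ∃ φ : ↥(D.N ⊓ T.Gt) →* Mc.Group, Function.Surjective φ ∧
      φ.ker = (D.H ⊓ T.Gt).subgroupOf (D.N ⊓ T.Gt) := by
  have key : ∀ S : Subgroup M, T.data.N = S →
      ∃ φ : ↥S →* Mc.Group, Function.Surjective φ ∧ φ.ker = T.data.H.subgroupOf S := by
    rintro S rfl
    exact Data.exists_weyl_hom (data_axioms hT) Mc eκ hM
  exact key _ (inf_Gt_N hT).symm

end Twist

end Cfsg.Agent.RootBN
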