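/-
The order of the Weyl group kills its elements.
-/
import Cfsg.Agent.Lib.RootBN.Setup

set_option autoImplicit false

namespace Cfsg.Agent.RootBN.Data

variable {M : Type*} [Group M] {ι : Type*} {κ : Type*} {D : Data M ι κ}

theorem wl_pow_card (ax : D.Axioms) [Finite ι] (l : List κ) : D.wl l ^ D.weyl.card = 1 := by
  classical
  let W : Subgroup (Equiv.Perm ι) :=
    { carrier := {σ | σ ∈ D.weyl}
      one_mem' := mem_weyl.2 ⟨[], wl_nil⟩
      mul_mem' := fun {a b} ha hb => by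
        obtain ⟨la, rfl⟩ := mem_weyl.1 ha
        obtain ⟨lb, rfl⟩ := mem_weyl.1 hb
        exact mem_weyl.2 ⟨la ++ lb, wl_append la lb⟩
      inv_mem' := fun {a} ha => by
        obtain ⟨la, rfl⟩ := mem_weyl.1 ha
        exact mem_weyl.2 ⟨la.reverse, wl_reverse ax la⟩ }
  have h : (⟨D.wl l, mem_weyl.2 ⟨l, rfl⟩⟩ : W) ^ Nat.card W = 1 := pow_card_eq_one'
  have hc : Nat.card W = D.weyl.card := by
    rw [← Nat.card_eq_finsetCard]; rfl
  rw [hc] at h
  exact congrArg Subtype.val h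

end Cfsg.Agent.RootBN.Data
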